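import Groth.Agent.L24.P1.Points
import Groth.Agent.L08.P1Hom.ToProper
import Groth.Agent.L16.ProjSpace.Basic

/-!
# Semilinear involutions of the projective line
-/

set_option autoImplicit false
set_option backward.isDefEq.respectTransparency false
set_option backward.isDefEq.respectTransparency.types false
set_option linter.style.haveILetI false

universe u

open CategoryTheory CategoryTheory.Limits AlgebraicGeometry MvPolynomial TopologicalSpace
open Groth.L08.P1Hom (smap smap_comp smap_congr smap_id scaleGraded a1)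

noncomputable section

namespace Groth.L24.P1

variable {K K' : Type u} [Field K] [Field K']

/-- The exchange matrix. -/
def swapMat (K : Type u) [Field K] : Matrix (Fin 2) (Fin 2) K := !![0, 1; 1, 0]

theorem swapMat_mul : swapMat K * swapMat K = 1 := by
  simp [swapMat, Matrix.one_fin_two]

/-- The exchange of the two coordinates. -/
def swap (K : Type u) [Field K] : CohB1.ProjSpace 1 K ⟶ CohB1.ProjSpace 1 K :=
  Proj.map (linGraded (swapMat K)) (linGraded_irrelevant swapMat_mul)

theorem swap_swap : swap K ≫ swap K = 𝟙 _ := by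
  rw [swap, ← Proj.map_comp]
  exact (Groth.L08.P1Hom.projMap_congr 1 (g := .id _) (fun p => linGraded_comp swapMat_mul p) _ (by simp)).trans Proj.map_id

theorem swap_toSpec : swap K ≫ CohB1.ProjSpace.toSpec 1 K = CohB1.ProjSpace.toSpec 1 K := by
  rw [swap, CohB1.ProjSpace.toSpec, ← Category.assoc, Groth.L18.FinProj.map_toSpecZero, Category.assoc, ← Spec.map_comp,
    ← CommRingCat.ofHom_comp]
  congr 3
  skip
  refine RingHom.ext fun r => Subtype.ext ?_
  exact eval₂Hom_C (C : K →+* MvPolynomial (Fin 2) K) (row (swapMat K)) r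

theorem linGraded_swap_X (j : Fin 2) : linGraded (swapMat K) (X j) = X (1 - j) := by
  refine (eval₂Hom_X' _ _ _).trans ?_
  fin_cases j <;> simp [row, swapMat, Fin.sum_univ_two]

theorem swap_preimage_X (j : Fin 2) :
    swap K ⁻¹ᵁ Proj.basicOpen (CohB1.polyGrading 1 K) (X j) = Proj.basicOpen (CohB1.polyGrading 1 K) (X (1 - j)) := by
  rw [swap, Proj.map_preimage_basicOpen]
  congr 1
  exact linGraded_swap_X j

/-- Exchange and scaling. -/
theorem swap_smap (φ : K →+* K') (c d : Fin 2 → K') (hc : ∀ j, IsUnit (c j)) (hd : ∀ j, IsUnit (d j))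
    (h : ∀ j, d j = c (1 - j)) : swap K' ≫ smap 1 φ c hc = smap 1 φ d hd ≫ swap K := by
  unfold swap smap
  rw [← Proj.map_comp, ← Proj.map_comp]
  refine Groth.L08.P1Hom.projMap_congr 1 (fun p => ?_) _ _
  show linGraded (swapMat K') (scaleGraded 1 φ c p) = scaleGraded 1 φ d (linGraded (swapMat K) p)
  induction p using MvPolynomial.induction_on with
  | C r =>
    show eval₂Hom C (row (swapMat K')) (eval₂Hom (C.comp φ) _ (C r)) =
      eval₂Hom (C.comp φ) _ (eval₂Hom C (row (swapMat K)) (C r))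
    simp [eval₂Hom_C]
  | add a b ha hb => simp only [map_add, ha, hb]
  | mul_X a i ha =>
    rw [map_mul, map_mul, map_mul, map_mul, ha, linGraded_swap_X]
    congr 1
    show linGraded (swapMat K') (eval₂Hom _ _ (X i)) = eval₂Hom _ _ (X (1 - i))
    rw [eval₂Hom_X', eval₂Hom_X', map_mul, linGraded_swap_X, h, sub_sub_cancel]
    congr 1
    exact eval₂Hom_C (C : K' →+* MvPolynomial (Fin 2) K') (row (swapMat K')) (c i)

theorem isUnit_pair {c : K} (hc : c ≠ 0) (j : Fin 2) : IsUnit ((![c, 1] : Fin 2 → K) j) := by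
  fin_cases j <;> simp [hc]

/-- The semilinear map exchanging the coordinates, with parameter `c`. -/
def conj (σ : K →+* K) (c : K) (hc : c ≠ 0) : CohB1.ProjSpace 1 K ⟶ CohB1.ProjSpace 1 K :=
  smap 1 σ ![c, 1] (isUnit_pair hc) ≫ swap K

theorem smap_toSpec (φ : K →+* K') (c : Fin 2 → K') (hc : ∀ j, IsUnit (c j)) :
    smap 1 φ c hc ≫ CohB1.ProjSpace.toSpec 1 K = CohB1.ProjSpace.toSpec 1 K' ≫ Spec.map (CommRingCat.ofHom φ) :=
  Groth.L08.P1Hom.smap_toSpec φ c hc

theorem conj_toSpec (σ : K →+* K) (c : K) (hc : c ≠ 0) :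
    conj σ c hc ≫ CohB1.ProjSpace.toSpec 1 K = CohB1.ProjSpace.toSpec 1 K ≫ Spec.map (CommRingCat.ofHom σ) := by
  rw [conj, Category.assoc, swap_toSpec, smap_toSpec]

theorem conj_conj (σ : K →+* K) (hσ : ∀ x, σ (σ x) = x) (c : K) (hc : c ≠ 0) :
    conj σ c hc ≫ conj σ c hc = smap 1 (RingHom.id K) ![c, σ c]
      (fun j => by fin_cases j <;> simp [hc]) := by
  have hs : σ.comp σ = RingHom.id K := RingHom.ext hσ
  rw [conj, Category.assoc, ← Category.assoc (swap K),
    swap_smap σ ![c, 1] ![1, c] (isUnit_pair hc) (fun j => by fin_cases j <;> simp [hc])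
      (fun j => by fin_cases j <;> rfl),
    Category.assoc, swap_swap, Category.comp_id, smap_comp]
  refine smap_congr 1 hs (fun j => ?_) _ _
  fin_cases j <;> simp

/-- The involution property makes the parameter invariant. -/
theorem conj_fixed (σ : K →+* K) (hσ : ∀ x, σ (σ x) = x) (c : K) (hc : c ≠ 0)
    (h : conj σ c hc ≫ conj σ c hc = 𝟙 _) : σ c = c := by
  rw [conj_conj σ hσ c hc] at h
  have e := congrArg (fun q => Groth.L18.PS.tuplePt (B := CommRingCat.of K) (RingHom.id K) (fun _ : Fin 2 => (1 : K)) 0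
    isUnit_one ≫ q) h
  simp only [Category.comp_id, Groth.L08.P1Hom.tuplePt_smap] at e
  obtain ⟨u, hu⟩ := Groth.L18.PS.exists_smul_of_tuplePt_eq _ _ _ _ _ _ e
  have h0 := hu 0
  have h1 := hu 1
  simp only [RingHom.id_apply, mul_one, Matrix.cons_val_zero, Matrix.cons_val_one, Matrix.cons_val_fin_one] at h0 h1
  exact mul_left_cancel₀ u.ne_zero (h1.symm.trans h0)

theorem conj_involutive (σ : K →+* K) (hσ : ∀ x, σ (σ x) = x) (c : K) (hc : c ≠ 0) (h : σ c = c) :
    conj σ c hc ≫ conj σ c hc = 𝟙 _ := by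
  rw [conj_conj σ hσ c hc, ← smap_id (R := K) 1]
  -- proportional scalars give the identity
  have : ∀ j, (![c, σ c] : Fin 2 → K) j = c := fun j => by fin_cases j <;> simp [h]
  rw [smap_congr 1 rfl this _ (fun _ => isUnit_iff_ne_zero.2 hc)]
  exact smap_const c hc
where
  smap_const (c : K) (hc : c ≠ 0) : smap 1 (RingHom.id K) (fun _ => c) (fun _ => isUnit_iff_ne_zero.2 hc) =
      smap 1 (RingHom.id K) (fun _ => (1 : K)) (fun _ => isUnit_one) := by
    haveI : IsIntegral (CohB1.ProjSpace 1 K) := Groth.L16.ProjSpace.isIntegral 1 K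
    haveI : Nonempty (Spec (CommRingCat.of (Polynomial K))) := inferInstance
    haveI : IsDominant (a1 (k := K)) := ⟨(a1 (k := K)).isOpenEmbedding.isOpen_range.dense (Set.range_nonempty _)⟩
    haveI := Groth.L16.ProjSpace.isProper_toSpec (n := 1) (R := K)
    refine ext_of_isDominant_of_isSeparated (CohB1.ProjSpace.toSpec 1 K) ?_ (a1 (k := K)) ?_
    · rw [smap_toSpec, smap_toSpec]
    · rw [a1, Groth.L08.P1Hom.tuplePt_smap, Groth.L08.P1Hom.tuplePt_smap]
      simp only [map_one, _root_.one_mul]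
      exact Groth.L18.PS.tuplePt_smul _ _ _ 0 0 _ _

/-- Change of field. -/
theorem conj_map (σ : K →+* K) (σ' : K' →+* K') (ι : K →+* K') (h : σ'.comp ι = ι.comp σ) (c : K) (hc : c ≠ 0)
    (c' : K') (hc' : c' ≠ 0) (he : c' = ι c) :
    conj σ' c' hc' ≫ Groth.L16.ProjSpace.map 1 ι = Groth.L16.ProjSpace.map 1 ι ≫ conj σ c hc := by
  rw [Groth.L08.P1Hom.map_eq_smap, conj, conj, Category.assoc,
    swap_smap ι (fun _ => 1) (fun _ => 1) (fun _ => isUnit_one) (fun _ => isUnit_one) (fun _ => rfl),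
    ← Category.assoc, ← Category.assoc, smap_comp, smap_comp]
  congr 1
  refine smap_congr 1 h (fun j => ?_) _ _
  fin_cases j <;> simp [he]

/-- The affine line inside the projective line is the first chart. -/
theorem opensRange_a1 : Set.range (a1 (k := K)) =
    SetLike.coe (Proj.basicOpen (CohB1.polyGrading 1 K) (X 0)) := by
  haveI : IsIso (Spec.map (CommRingCat.ofHom (Groth.L18.PS.chartHom (Polynomial.C : K →+* Polynomial K)
      (fun j : Fin (1 + 1) => if j = 0 then 1 else Polynomial.X) 0 (by simp)))) := by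
    haveI : IsIso (CommRingCat.ofHom (Groth.L18.PS.chartHom (Polynomial.C : K →+* Polynomial K)
        (fun j : Fin (1 + 1) => if j = 0 then 1 else Polynomial.X) 0 (by simp))) :=
      (ConcreteCategory.isIso_iff_bijective _).mpr (Groth.L11.REqHom.chartHom_line_bijective K)
    infer_instance
  rw [← Groth.L18.PS.range_chart, Scheme.Hom.coe_opensRange, a1, Groth.L18.PS.tuplePt]
  simp only [Scheme.Hom.comp_base, TopCat.coe_comp]
  refine Function.Surjective.range_comp ?_ _
  exact (Scheme.Hom.homeomorph (Spec.map (CommRingCat.ofHom (Groth.L18.PS.chartHom (Polynomial.C : K →+* Polynomial K)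
      (fun j : Fin (1 + 1) => if j = 0 then 1 else Polynomial.X) 0 (isUnit_one))))).surjective

/-- An endomorphism preserving the chart is a polynomial map on it. -/
theorem exists_poly (θ : CohB1.ProjSpace 1 K ⟶ CohB1.ProjSpace 1 K)
    (hθ : θ ≫ CohB1.ProjSpace.toSpec 1 K = CohB1.ProjSpace.toSpec 1 K)
    (hp : θ ⁻¹ᵁ Proj.basicOpen (CohB1.polyGrading 1 K) (X 0) = Proj.basicOpen (CohB1.polyGrading 1 K) (X 0)) :
    ∃ p : Polynomial K, a1 ≫ θ = Spec.map (CommRingCat.ofHom (Polynomial.aeval p).toRingHom) ≫ a1 := by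
  obtain ⟨τ, b, hb, e, hb0⟩ := Groth.L18.PS.exists_tuplePt (B := CommRingCat.of (Polynomial K)) (a1 ≫ θ) 0 fun x => by
    show a1 x ∈ θ ⁻¹ᵁ Proj.basicOpen (CohB1.polyGrading 1 K) (X 0)
    rw [hp, ← SetLike.mem_coe, ← opensRange_a1]
    exact ⟨x, rfl⟩
  have hτ : τ = Polynomial.C := by
    have h := congrArg (fun q => q ≫ CohB1.ProjSpace.toSpec 1 K) e
    simp only [Category.assoc, hθ, Groth.L08.P1Hom.a1_toSpec, Groth.L18.PS.tuplePt_toSpec] at h
    exact (congrArg CommRingCat.Hom.hom (Spec.map_injective h)).symm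
  subst hτ
  refine ⟨b 1, e.trans ?_⟩
  rw [a1, Groth.L18.PS.SpecMap_tuplePt]
  refine (Groth.L18.PS.tuplePt_congr (B := CommRingCat.of (Polynomial K)) _ (n := 1) (b := (fun l : Fin 2 => (Polynomial.aeval (R := K) (A := Polynomial K) (b 1)).toRingHom (if l = 0 then (1 : Polynomial K) else Polynomial.X) : Fin 2 → Polynomial K))
    (fun l => ?_) 0 0 hb (by simp)).trans ?_
  · fin_cases l <;> simp [hb0]
  · congr 1
    refine RingHom.ext fun r => ?_
    simp

/-- A linear automorphism preserving both standard charts is a scaling. -/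
theorem exists_scale (θ : CohB1.ProjSpace 1 K ≅ CohB1.ProjSpace 1 K)
    (hθ : θ.hom ≫ CohB1.ProjSpace.toSpec 1 K = CohB1.ProjSpace.toSpec 1 K)
    (h0 : θ.hom ⁻¹ᵁ Proj.basicOpen (CohB1.polyGrading 1 K) (X 0) = Proj.basicOpen (CohB1.polyGrading 1 K) (X 0))
    (h1 : stdPt K 0 ≫ θ.hom = stdPt K 0) :
    ∃ (c : K) (hc : c ≠ 0), θ.hom = smap 1 (RingHom.id K) ![c, 1] (isUnit_pair hc) := by
  obtain ⟨p, hp⟩ := exists_poly θ.hom hθ h0
  obtain ⟨q, hq⟩ := exists_poly θ.inv (by rw [Iso.inv_comp_eq, hθ]) (by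
    conv_lhs => rw [← h0, ← Scheme.Hom.comp_preimage, θ.inv_hom_id, Scheme.Hom.id_preimage])
  have hpq : (Polynomial.aeval p).toRingHom.comp (Polynomial.aeval q).toRingHom = RingHom.id (Polynomial K) := by
    have h : Spec.map (CommRingCat.ofHom (Polynomial.aeval p).toRingHom) ≫
        Spec.map (CommRingCat.ofHom (Polynomial.aeval q).toRingHom) ≫ a1 = 𝟙 _ ≫ a1 := by
      rw [← hq, ← Category.assoc, ← hp, Category.assoc, θ.hom_inv_id, Category.comp_id, Category.id_comp]
    rw [← Category.assoc, cancel_mono, ← Spec.map_comp] at h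
    exact congrArg CommRingCat.Hom.hom (Spec.map_injective (h.trans (Spec.map_id _).symm))
  have hdeg : p.natDegree = 1 := by
    have h := congrArg Polynomial.natDegree (RingHom.congr_fun hpq Polynomial.X)
    simp only [RingHom.comp_apply, AlgHom.toRingHom_eq_coe, RingHom.coe_coe, Polynomial.aeval_X, RingHom.id_apply,
      Polynomial.natDegree_X, Polynomial.aeval_def, Polynomial.algebraMap_eq] at h
    rw [Polynomial.eval₂_X, show Polynomial.eval₂ Polynomial.C p q = q.comp p from rfl] at h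
    rw [Polynomial.natDegree_comp] at h
    exact Nat.eq_one_of_mul_eq_one_left h
  -- the value at the origin
  let ev : Polynomial K →+* K := (Polynomial.aeval (0 : K)).toRingHom
  have hev : stdPt K 0 = Spec.map (CommRingCat.ofHom ev) ≫ a1 := by
    rw [stdPt, a1, Groth.L18.PS.SpecMap_tuplePt]
    refine (Groth.L18.PS.tuplePt_congr _ (b := fun l : Fin 2 => ev (if l = 0 then 1 else Polynomial.X))
      (fun l => ?_) 0 0 _ (by simp)).trans ?_
    · fin_cases l <;> simp [ev]
    · congr 1
      refine RingHom.ext fun r => ?_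
      simp [ev]
  have hp0 : p.coeff 0 = 0 := by
    rw [hev, Category.assoc, hp, ← Category.assoc, cancel_mono, ← Spec.map_comp] at h1
    have h := RingHom.congr_fun (congrArg CommRingCat.Hom.hom (Spec.map_injective h1)) Polynomial.X
    simpa [ev, Polynomial.coeff_zero_eq_eval_zero] using h
  let a := p.coeff 1
  have ha : p = Polynomial.C a * Polynomial.X := by
    rw [Polynomial.eq_X_add_C_of_natDegree_le_one hdeg.le, hp0]
    simp [a]
  have ha0 : a ≠ 0 := fun h => by rw [ha, h] at hdeg; simp at hdeg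
  refine ⟨a⁻¹, inv_ne_zero ha0, ?_⟩
  haveI : IsIntegral (CohB1.ProjSpace 1 K) := Groth.L16.ProjSpace.isIntegral 1 K
  haveI : IsDominant (a1 (k := K)) := ⟨(a1 (k := K)).isOpenEmbedding.isOpen_range.dense (Set.range_nonempty _)⟩
  haveI := Groth.L16.ProjSpace.isProper_toSpec (n := 1) (R := K)
  refine ext_of_isDominant_of_isSeparated (CohB1.ProjSpace.toSpec 1 K) ?_ (a1 (k := K)) ?_
  · rw [hθ, smap_toSpec, CommRingCat.ofHom_id, Spec.map_id, Category.comp_id]
  · rw [hp, a1, Groth.L08.P1Hom.tuplePt_smap, Groth.L18.PS.SpecMap_tuplePt]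
    refine (Groth.L18.PS.tuplePt_congr _ (fun l => ?_) 0 0 _ (by simp; exact ha0)).trans
      ((Groth.L18.PS.tuplePt_smul _ (fun l : Fin 2 => Polynomial.C ((![a⁻¹, 1] : Fin 2 → K) l) *
        (if l = 0 then 1 else Polynomial.X)) (Polynomial.C a) 0 0 (by simp [← Polynomial.C_mul, ha0]) (by simp [ha0])).trans ?_)
    · exact (show (Polynomial.aeval p).toRingHom (if l = 0 then 1 else Polynomial.X) =
          Polynomial.C a * (Polynomial.C ((![a⁻¹, 1] : Fin 2 → K) l) * if l = 0 then 1 else Polynomial.X) by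
        fin_cases l
        · simp [← Polynomial.C_mul, ha0]
        · simp [← ha])
    · congr 1
      refine RingHom.ext fun r => ?_
      simp

end Groth.L24.P1
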