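import Groth.Agent.L24.P1.Mgn
import Groth.Agent.L24.P1.Semi
import Groth.Agent.L11.GalTwist.Twist
import Groth.Agent.L11.GalTwist.Morph
import Groth.Agent.L16.ProjSpace.AmpleIff
import Groth.Agent.L27.Quot.Desc

/-!
# Models of conics
-/

set_option autoImplicit false
set_option backward.isDefEq.respectTransparency false
set_option backward.isDefEq.respectTransparency.types false
set_option linter.style.haveILetI false

universe u

open CategoryTheory CategoryTheory.Limits AlgebraicGeometry MvPolynomial TopologicalSpace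
open GalTw (bcK galMap specMap twHom)
open Groth.L11.GalTwist (ptHom twMap twAction)

noncomputable section

namespace Groth.L24.P1

section Field

variable {L E : Type u} [Field L] [Field E] [Algebra L E]

theorem not_range_of_sq {φ : E} {a : L} (hφ : φ ^ 2 = algebraMap L E a) (ha : ∀ s : L, s ^ 2 ≠ a) (s : L) :
    algebraMap L E s ≠ φ := fun h => ha s ((algebraMap L E).injective (by rw [map_pow, h, hφ]))

theorem exists_coords {φ : E} {a : L} (hφ : φ ^ 2 = algebraMap L E a) (ha : ∀ s : L, s ^ 2 ≠ a)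
    (hd : Module.finrank L E = 2) (x : E) : ∃ s t : L, x = algebraMap L E s + t • φ := by
  have hli : LinearIndependent L ![(1 : E), φ] := LinearIndependent.pair_iff.2 fun s t h => by
    have ht : t = 0 := by
      by_contra ht
      refine not_range_of_sq hφ ha (-s / t) ?_
      rw [Algebra.algebraMap_eq_smul_one]
      have h' := congrArg (fun z => t⁻¹ • z) h
      simp only [smul_add, smul_smul, inv_mul_cancel₀ ht, one_smul, smul_zero] at h'
      rw [show -s / t = -(t⁻¹ * s) by field_simp, neg_smul]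
      exact (eq_neg_of_add_eq_zero_right h').symm
    subst ht
    rw [zero_smul, add_zero, smul_eq_zero] at h
    exact ⟨h.resolve_right one_ne_zero, rfl⟩
  let b := basisOfLinearIndependentOfCardEqFinrank hli (by simp [hd])
  refine ⟨b.repr x 0, b.repr x 1, ?_⟩
  conv_lhs => rw [← b.sum_repr x]
  simp [b, Fin.sum_univ_two, Algebra.algebraMap_eq_smul_one]

/-- The Galois group of a quadratic extension. -/
theorem exists_galois [CharZero L] {φ : E} {a : L} (hφ : φ ^ 2 = algebraMap L E a) (ha : ∀ s : L, s ^ 2 ≠ a)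
    (hd : Module.finrank L E = 2) :
    FiniteDimensional L E ∧ IsGalois L E ∧
      ∃ σ : E ≃ₐ[L] E, σ φ = -φ ∧ σ * σ = 1 ∧ σ ≠ 1 ∧ ∀ τ : E ≃ₐ[L] E, τ = 1 ∨ τ = σ := by
  haveI hf : FiniteDimensional L E := Module.finite_of_finrank_pos (by omega)
  haveI : Algebra.IsQuadraticExtension L E := { finrank_eq_two' := hd }
  haveI : CharZero E := charZero_of_injective_algebraMap (algebraMap L E).injective
  have hG : IsGalois L E := ⟨⟩
  have hval : ∀ τ : E ≃ₐ[L] E, τ φ = φ ∨ τ φ = -φ := fun τ => by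
    have : τ φ ^ 2 = φ ^ 2 := by rw [← map_pow, hφ, AlgEquiv.commutes]
    exact sq_eq_sq_iff_eq_or_eq_neg.1 this
  have hext : ∀ τ τ' : E ≃ₐ[L] E, τ φ = τ' φ → τ = τ' := fun τ τ' h => AlgEquiv.ext fun x => by
    obtain ⟨s, t, rfl⟩ := exists_coords hφ ha hd x
    simp only [map_add, Algebra.smul_def, map_mul, AlgEquiv.commutes, h]
  refine ⟨hf, hG, ?_⟩
  haveI : Finite (E ≃ₐ[L] E) := inferInstance
  have hc : Nat.card (E ≃ₐ[L] E) = 2 := (IsGalois.card_aut_eq_finrank L E).trans hd
  obtain ⟨σ, hσ⟩ : ∃ σ : E ≃ₐ[L] E, σ ≠ 1 := by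
    by_contra h
    push Not at h
    haveI : Subsingleton (E ≃ₐ[L] E) := ⟨fun x y => (h x).trans (h y).symm⟩
    rw [Nat.card_of_subsingleton 1] at hc
    omega
  have hσφ : σ φ = -φ := (hval σ).resolve_left fun h => hσ (hext σ 1 h)
  refine ⟨σ, hσφ, hext _ _ ?_, hσ, fun τ => (hval τ).imp (hext τ 1) fun h => hext τ σ (h.trans hσφ.symm)⟩
  show σ (σ φ) = φ
  rw [hσφ, map_neg, hσφ, neg_neg]

end Field

/-- Smooth curves of genus zero are recognised on splittings. -/
theorem isCurveOfGenus_of_splitting {F : Type u} [Field F] {Y : Scheme.{u}} (p : Y ⟶ Spec (CommRingCat.of F))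
    {K : Type u} [Field K] [Algebra F K] (e : BrSev.Splitting p K 1) : ModFun.IsCurveOfGenus 0 p := by
  refine ⟨Groth.L24.SB.smooth_of_splitting p e, Groth.L24.SB.isProper_of_splitting p e, ?_, ?_⟩
  · haveI := Groth.L24.SB.geometricallyIntegral_of_splitting p e
    infer_instance
  · intro Ω _ _ t X i q sq
    letI : Algebra F Ω := (Spec.preimage t).hom.toAlgebra
    have ht : Spec.map (CommRingCat.ofHom (algebraMap F Ω)) = t := Spec.map_preimage t
    obtain ⟨eΩ⟩ := Groth.L24.SB.exists_splitting_closed p e Ω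
    rw [← ht] at sq
    let E : X ≅ CohB1.ProjSpace 1 Ω := sq.isoPullback ≪≫ eΩ.iso
    have hE : E.hom ≫ CohB1.ProjSpace.toSpec 1 Ω = q := by
      rw [Iso.trans_hom, Category.assoc, eΩ.comm]
      exact sq.isoPullback_hom_snd
    have hstd := (isSmoothPtdFam_std Ω (n := 0) (fun i : Fin 0 => (i.elim0 : Fin 2)) (fun i => i.elim0)).1
    exact hstd.2.2.2 Ω (𝟙 _) X E.hom q (IsPullback.of_horiz_isIso ⟨by rw [hE, Category.comp_id]⟩)

section Twist

variable (F F' : Type u) [Field F] [Field F'] [Algebra F F']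

/-- The projective line over `F`, over its base. -/
abbrev lineOver : Over (Spec (CommRingCat.of F)) := Over.mk (CohB1.ProjSpace.toSpec 1 F)

/-- Its base change. -/
def lineBC : (bcK F' (lineOver F)).left ≅ CohB1.ProjSpace 1 F' :=
  (IsPullback.of_hasPullback (CohB1.ProjSpace.toSpec 1 F) (SGA7.pt (K := F) F').hom).isoIsPullback _ _
    (Groth.L16.ProjSpace.isPullback_map 1 (algebraMap F F'))

theorem lineBC_fst : (lineBC F F').hom ≫ Groth.L16.ProjSpace.map 1 (algebraMap F F') =
    pullback.fst (CohB1.ProjSpace.toSpec 1 F) (SGA7.pt (K := F) F').hom :=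
  IsPullback.isoIsPullback_hom_fst _ _ _ _

theorem lineBC_snd : (lineBC F F').hom ≫ CohB1.ProjSpace.toSpec 1 F' =
    pullback.snd (CohB1.ProjSpace.toSpec 1 F) (SGA7.pt (K := F) F').hom :=
  IsPullback.isoIsPullback_hom_snd _ _ _ _

theorem galMap_lineBC (σ : F' ≃ₐ[F] F') :
    galMap F' σ (lineOver F) ≫ (lineBC F F').hom =
      (lineBC F F').hom ≫ Groth.L16.ProjSpace.map 1 (σ : F' →+* F') := by
  refine (Groth.L16.ProjSpace.isPullback_map 1 (algebraMap F F')).hom_ext ?_ ?_
  · rw [Category.assoc, Category.assoc, lineBC_fst]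
    rw [show Groth.L16.ProjSpace.map 1 (σ : F' →+* F') ≫ Groth.L16.ProjSpace.map 1 (algebraMap F F') =
      Groth.L16.ProjSpace.map 1 (algebraMap F F') by
        rw [Groth.L08.P1Hom.map_eq_smap, Groth.L08.P1Hom.map_eq_smap, Groth.L08.P1Hom.smap_comp]
        exact Groth.L08.P1Hom.smap_congr 1 (RingHom.ext σ.commutes) (fun _ => by simp) _ _]
    rw [lineBC_fst]
    exact GalTw.galMap_fst F' σ (lineOver F)
  · rw [Category.assoc, Category.assoc, lineBC_snd, Groth.L16.ProjSpace.map_toSpec, ← Category.assoc (lineBC F F').hom,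
      lineBC_snd]
    exact GalTw.galMap_snd F' σ (lineOver F)

variable {F F'}

/-- A model of the conic with given parameters. -/
theorem exists_model [CharZero F] {φ : F'} {a : F} (hφ : φ ^ 2 = algebraMap F F' a) (ha : ∀ s : F, s ^ 2 ≠ a)
    (hd : Module.finrank F F' = 2) (σ : F' ≃ₐ[F] F') (hσ : σ φ = -φ) (c : F) (hc : algebraMap F F' c ≠ 0) :
    ∃ (Y : Scheme.{u}) (p : Y ⟶ Spec (CommRingCat.of F)) (q : CohB1.ProjSpace 1 F' ⟶ Y),
      ModFun.IsCurveOfGenus 0 p ∧
      IsPullback q (CohB1.ProjSpace.toSpec 1 F') p (Spec.map (CommRingCat.ofHom (algebraMap F F'))) ∧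
      conj (σ : F' →+* F') (algebraMap F F' c) hc ≫ q = q := by
  obtain ⟨hfin, hgal, σ₀, hσ₀, hσσ, hσ1, hall⟩ := exists_galois hφ ha hd
  haveI := hfin
  haveI := hgal
  obtain rfl : σ = σ₀ := (hall σ).resolve_left fun h => by
    subst h
    have h2 : φ = -φ := hσ
    refine not_range_of_sq hφ ha 0 ?_
    rw [map_zero]
    haveI : CharZero F' := charZero_of_injective_algebraMap (algebraMap F F').injective
    exact (add_self_eq_zero.1 (eq_neg_iff_add_eq_zero.1 h2)).symm
  have hinv : σ⁻¹ = σ := inv_eq_of_mul_eq_one_right hσσ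
  let β := lineBC F F'
  let cj := conj (σ : F' →+* F') (algebraMap F F' c) hc
  have hcj : cj ≫ cj = 𝟙 _ := conj_involutive _ (fun x => AlgEquiv.congr_fun hσσ x) _ hc (σ.commutes c)
  let C : (bcK F' (lineOver F)).left ⟶ (bcK F' (lineOver F)).left := β.hom ≫ cj ≫ β.inv
  have hC : C ≫ C = 𝟙 _ := by simp [C, reassoc_of% hcj]
  have hCg : C ≫ pullback.snd (CohB1.ProjSpace.toSpec 1 F) (SGA7.pt (K := F) F').hom =
      pullback.snd (CohB1.ProjSpace.toSpec 1 F) (SGA7.pt (K := F) F').hom ≫ specMap F' σ := by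
    rw [← lineBC_snd, Category.assoc, Category.assoc, Category.assoc]
    show β.hom ≫ cj ≫ β.inv ≫ β.hom ≫ _ = _
    rw [Iso.inv_hom_id_assoc, conj_toSpec]
  have hgg : galMap F' σ (lineOver F) ≫ galMap F' σ (lineOver F) = 𝟙 _ := by
    rw [GalTw.galMap_mul, hσσ, GalTw.galMap_one]
  let T : Aut (bcK F' (lineOver F)) := Over.isoMk
    { hom := galMap F' σ (lineOver F) ≫ C
      inv := C ≫ galMap F' σ (lineOver F)
      hom_inv_id := by rw [Category.assoc, reassoc_of% hC, hgg]
      inv_hom_id := by rw [Category.assoc, reassoc_of% hgg, hC] }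
    (by
      show (galMap F' σ (lineOver F) ≫ C) ≫ pullback.snd (lineOver F).hom (SGA7.pt (K := F) F').hom = _
      rw [Category.assoc]
      show galMap F' σ (lineOver F) ≫ C ≫ pullback.snd (CohB1.ProjSpace.toSpec 1 F) _ = _
      rw [hCg]
      show galMap F' σ (lineOver F) ≫ pullback.snd (lineOver F).hom _ ≫ specMap F' σ = _
      rw [GalTw.galMap_snd_assoc, ← GalTw.specMap_mul, hσσ, GalTw.specMap_one, Category.comp_id]
      rfl)
  classical
  let af : (F' ≃ₐ[F] F') → Aut (bcK F' (lineOver F)) := fun τ => if τ = 1 then 1 else T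
  have haf1 : af 1 = 1 := if_pos rfl
  have hafσ : af σ = T := if_neg hσ1
  let a' : GpH1.OneCocycle (F' ≃ₐ[F] F') (Aut (bcK F' (lineOver F))) := ⟨af, fun s t => by
    rcases hall s with hs | hs <;> rw [hs]
    · rw [one_mul, haf1, one_smul, one_mul]
    · rcases hall t with ht | ht <;> rw [ht]
      · rw [mul_one, haf1, smul_one, mul_one]
      · rw [hσσ, haf1, hafσ]
        refine Iso.ext (Over.OverMorphism.ext ?_)
        show 𝟙 _ = (galMap F' σ (lineOver F) ≫ (galMap F' σ (lineOver F) ≫ C) ≫ galMap F' σ⁻¹ (lineOver F)) ≫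
          galMap F' σ (lineOver F) ≫ C
        rw [hinv]
        simp only [Category.assoc, reassoc_of% hgg, hC]⟩
  obtain ⟨Y, ⟨ψ, hψ⟩, -⟩ := Groth.L11.GalTwist.exists_isTwist_of_orbit a' fun v => by
    let fstX : (bcK F' (lineOver F)).left ⟶ (lineOver F).left := pullback.fst (lineOver F).hom (ptHom (k := F) F')
    haveI : IsAffineHom fstX := MorphismProperty.pullback_fst (P := @IsAffineHom) _ _
      (isAffineHom_of_isAffine _)
    obtain ⟨m, s, hs, -, hsa⟩ := Groth.L18.Ample.exists_pow_genLocus_of_isAmple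
      (X := (lineOver F).left) ((Groth.L16.ProjSpace.isAmple_twistProjSpace_iff 1 F le_rfl 1).2 one_pos)
      (Set.range fun τ => fstX ((twAction a' τ).hom v)) (Set.finite_range _) ⊤ fun _ _ => trivial
    exact ⟨_, hsa.preimage fstX, fun τ => hs ⟨τ, rfl⟩⟩
  let q : CohB1.ProjSpace 1 F' ⟶ Y.left := β.inv ≫ ψ.inv.left ≫ pullback.fst Y.hom (ptHom (k := F) F')
  have hψw : ψ.hom.left ≫ pullback.snd (lineOver F).hom (ptHom (k := F) F') = pullback.snd Y.hom (ptHom (k := F) F') :=
    Over.w ψ.hom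
  have sq : IsPullback q (CohB1.ProjSpace.toSpec 1 F') Y.hom (Spec.map (CommRingCat.ofHom (algebraMap F F'))) := by
    refine (IsPullback.of_hasPullback Y.hom (ptHom (k := F) F')).of_iso ((Over.forget _).mapIso ψ ≪≫ β)
      (Iso.refl _) (Iso.refl _) (Iso.refl _) ?_ ?_ (by simp) (by simp)
    · simp only [Iso.trans_hom, Functor.mapIso_hom, Iso.refl_hom, Category.comp_id, Category.assoc, q]
      rw [Iso.hom_inv_id_assoc]
      exact (Over.hom_left_inv_left_assoc ψ _).symm
    · simp only [Iso.trans_hom, Functor.mapIso_hom, Iso.refl_hom, Category.comp_id, Category.assoc]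
      rw [lineBC_snd]
      exact hψw.symm
  refine ⟨Y.left, Y.hom, q, ?_, sq, ?_⟩
  · exact isCurveOfGenus_of_splitting Y.hom (K := F') ⟨sq.isoPullback.symm, sq.isoPullback_inv_snd⟩
  · have h := congrArg (fun m => m.left) (Groth.L11.GalTwist.cocycle_spec hψ σ)
    change (galMap F' σ Y ≫ ψ.hom.left ≫ galMap F' σ⁻¹ (lineOver F)) ≫ (af σ).hom.left = ψ.hom.left at h
    rw [hafσ, hinv] at h
    change (galMap F' σ Y ≫ ψ.hom.left ≫ galMap F' σ (lineOver F)) ≫ galMap F' σ (lineOver F) ≫ C = ψ.hom.left at h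
    simp only [Category.assoc, reassoc_of% hgg] at h
    have hY : galMap F' σ Y ≫ galMap F' σ Y = 𝟙 _ := by rw [GalTw.galMap_mul, hσσ, GalTw.galMap_one]
    have h' : C ≫ ψ.inv.left = ψ.inv.left ≫ galMap F' σ Y := by
      have h1 : ψ.hom.left ≫ C = galMap F' σ Y ≫ ψ.hom.left := by
        conv_rhs => rw [← h, ← Category.assoc, hY, Category.id_comp]
      rw [← cancel_epi ψ.hom.left, reassoc_of% h1, Over.hom_left_inv_left_assoc, Over.hom_left_inv_left,
        Category.comp_id]
    show cj ≫ β.inv ≫ ψ.inv.left ≫ _ = β.inv ≫ ψ.inv.left ≫ _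
    conv_rhs => rw [← GalTw.galMap_fst F' σ Y, ← Category.assoc ψ.inv.left, ← h']
    simp only [C, Category.assoc, Iso.inv_hom_id_assoc]

end Twist

end Groth.L24.P1
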