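import Groth.Agent.L24.SB.Forms
import Groth.Agent.L24.SB.Index
import Groth.Agent.L24.SB.SplitIff
import Groth.Agent.L21.CurveDual.Twist
import Groth.Agent.L03.PlanePoints
import Groth.Agent.L16.ProjSpace.Sections
import Groth.Agent.L16.ProjSpace.BaseChange

/-!
# Forms of the projective line are split by a quadratic extension
-/

set_option autoImplicit false
set_option linter.style.haveILetI false
set_option backward.isDefEq.respectTransparency false
set_option backward.isDefEq.respectTransparency.types false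

universe u

open CategoryTheory CategoryTheory.Limits AlgebraicGeometry
open scoped TensorProduct

noncomputable section

namespace Groth.L24.P1

open Groth.L24.SB (homBC bijective_homBC)

variable {k : Type u} [Field k]

/-- The product of the two conjugate tensors vanishes. -/
theorem tensor_conj_mul {L D : Type u} [CommRing L] [Algebra k L] [Ring D] [Algebra k D] {φ : L} {d : D} {a : k}
    (hφ : φ ^ 2 = algebraMap k L a) (hd : d * d = algebraMap k D a) :
    (φ ⊗ₜ[k] (1 : D) - (1 : L) ⊗ₜ[k] d) * (φ ⊗ₜ[k] (1 : D) + (1 : L) ⊗ₜ[k] d) = 0 := by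
  simp only [sub_mul, mul_add, Algebra.TensorProduct.tmul_mul_tmul, one_mul, mul_one]
  rw [← pow_two, hφ, hd, Algebra.algebraMap_eq_smul_one, Algebra.algebraMap_eq_smul_one, TensorProduct.smul_tmul]
  abel

/-- The two conjugate tensors are non-zero. -/
theorem tensor_conj_ne {L D : Type u} [CommRing L] [Algebra k L] [Ring D] [Algebra k D] {φ : L} {d : D}
    (hφ : φ ≠ 0) (hlin : LinearIndependent k ![(1 : D), d]) :
    φ ⊗ₜ[k] (1 : D) - (1 : L) ⊗ₜ[k] d ≠ 0 ∧ φ ⊗ₜ[k] (1 : D) + (1 : L) ⊗ₜ[k] d ≠ 0 := by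
  obtain ⟨ℓ, h1, h2⟩ : ∃ ℓ : D →ₗ[k] k, ℓ 1 = 1 ∧ ℓ d = 0 := by
    have hd : (1 : D) ∉ Submodule.span k {d} := by
      rw [Submodule.mem_span_singleton]
      rintro ⟨c, hc⟩
      have h := LinearIndependent.pair_iff.1 hlin 1 (-c) (by rw [one_smul, neg_smul, hc, add_neg_cancel])
      exact one_ne_zero h.1
    obtain ⟨ℓ, hℓ1, hℓ2⟩ := Submodule.exists_dual_map_eq_bot_of_notMem hd inferInstance
    refine ⟨(ℓ 1)⁻¹ • ℓ, by simp [hℓ1], ?_⟩
    have : ℓ d ∈ (Submodule.span k {d}).map ℓ := Submodule.mem_map_of_mem (Submodule.mem_span_singleton_self d)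
    rw [hℓ2] at this
    simp [(Submodule.mem_bot k).1 this]
  constructor <;> intro h <;>
    exact hφ (by simpa [h1, h2] using congrArg (fun z => TensorProduct.rid k L (ℓ.lTensor L z)) h)

/-- Linear forms in two variables make a plane. -/
theorem finrank_hom_twist_one : letI : (CohB1.ProjSpace 1 k).Over (Spec (CommRingCat.of k)) := ⟨CohB1.ProjSpace.toSpec 1 k⟩
    Module.finrank k (Coh.structureModule (CohB1.ProjSpace 1 k) ⟶ Twist.twistProjSpace 1 k 1) = 2 := by
  letI : (CohB1.ProjSpace 1 k).Over (Spec (CommRingCat.of k)) := ⟨CohB1.ProjSpace.toSpec 1 k⟩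
  haveI : IsProper (CohB1.ProjSpace 1 k ↘ Spec (CommRingCat.of k)) :=
    Groth.L16.ProjSpace.isProper_toSpec (n := 1) (R := k)
  obtain ⟨e⟩ := Groth.L16.ProjSpace.nonempty_H0_twist_linearEquiv 1 k 1
  rw [← Groth.L21.CurveDual.h0_eq_finrank_hom (k := k)]
  exact e.finrank_eq.trans ((Groth.L03.PlanePoints.finrank_homogeneous (F := k) 1 1).2.trans rfl)

variable {X : Scheme.{u}} (f : X ⟶ Spec (CommRingCat.of k)) [IsProper f]
  {K : Type u} [Field K] [Algebra k K] (e : BrSev.Splitting f K 1)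

/-- The sections of the type `O(1)` bound the multiplicity by two. -/
theorem le_two {W : X.Modules} (hW : FlatMod.IsFinLocFree W) (hWi : Groth.L24.KrullSchmidt.Indec W) {r : ℕ}
    (hr : 0 < r) (hWt : BrSev.IsTwPow e 1 r W) : r ≤ 2 := by
  classical
  letI : X.Over (Spec (CommRingCat.of k)) := ⟨f⟩
  haveI : IsProper (X ↘ Spec (CommRingCat.of k)) := ‹IsProper f›
  letI : (BrSev.bc f K).Over (Spec (CommRingCat.of K)) := ⟨BrSev.bcTo f K⟩
  haveI : IsProper (BrSev.bc f K ↘ Spec (CommRingCat.of K)) := inferInstanceAs (IsProper (BrSev.bcTo f K))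
  letI : (CohB1.ProjSpace 1 k).Over (Spec (CommRingCat.of k)) := ⟨CohB1.ProjSpace.toSpec 1 k⟩
  haveI : IsProper (CohB1.ProjSpace 1 k ↘ Spec (CommRingCat.of k)) :=
    Groth.L16.ProjSpace.isProper_toSpec (n := 1) (R := k)
  let g := BrSev.proj f K
  let q := e.iso.hom ≫ Groth.L16.ProjSpace.map 1 (algebraMap k K)
  let φ := Spec.map (CommRingCat.ofHom (algebraMap k K))
  have sq : IsPullback g (BrSev.bc f K ↘ Spec (CommRingCat.of K)) (X ↘ Spec (CommRingCat.of k)) φ :=
    IsPullback.of_hasPullback f φ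
  have sq' : IsPullback q (BrSev.bc f K ↘ Spec (CommRingCat.of K)) (CohB1.ProjSpace 1 k ↘ Spec (CommRingCat.of k)) φ :=
    (Groth.L16.ProjSpace.isPullback_map 1 (algebraMap k K)).of_iso e.iso.symm (Iso.refl _) (Iso.refl _)
      (Iso.refl _) (by simp [q]) (by simp only [Iso.refl_hom, Category.comp_id, Iso.symm_hom]; exact (e.iso.inv_comp_eq.2 e.comm.symm).symm)
      (by rw [Iso.refl_hom, Category.comp_id, Iso.refl_hom, Category.id_comp]; rfl) (by simp [φ])
  haveI : IsLocallyNoetherian X := LocallyOfFiniteType.isLocallyNoetherian f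
  haveI : IsLocallyNoetherian (BrSev.bc f K) :=
    LocallyOfFiniteType.isLocallyNoetherian (BrSev.bc f K ↘ Spec (CommRingCat.of K))
  haveI : IsLocallyNoetherian (CohB1.ProjSpace 1 k) :=
    LocallyOfFiniteType.isLocallyNoetherian (CohB1.ProjSpace 1 k ↘ Spec (CommRingCat.of k))
  have hcO : Coh.IsCoh (Coh.structureModule X) := Groth.L16.CohClosedPush.isCoh_structure (X := X)
  have hcW := Groth.L16.NegPow.isCoh_of_isFinLocFree hW
  have hcP : Coh.IsCoh (Coh.structureModule (CohB1.ProjSpace 1 k)) := Groth.L16.CohClosedPush.isCoh_structure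
  have hcT : Coh.IsCoh (Twist.twistProjSpace 1 k 1) :=
    Groth.L18.Ample.isCoh_of_isInvertible (Groth.L16.ProjTwist.isInvertible_twistProjSpace 1 k 1)
  -- the two base changes
  obtain ⟨b⟩ := Groth.L24.GalPush.nonempty_pullback_map 1 (algebraMap k K) 1
  let τ : (Scheme.Modules.pullback q).obj (Twist.twistProjSpace 1 k 1) ≅ e.twist 1 :=
    ((Scheme.Modules.pullbackComp e.iso.hom _).app _).symm ≪≫ (Scheme.Modules.pullback e.iso.hom).mapIso b
  obtain ⟨a⟩ := hWt
  let O := Coh.structureModule (BrSev.bc f K)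
  let E1 : K ⊗[k] (Coh.structureModule X ⟶ W) ≃ₗ[K] (O ⟶ ∐ fun _ : Fin r => e.twist 1) :=
    (LinearEquiv.ofBijective _ (bijective_homBC g sq hcO hcW)).trans
      (Linear.homCongr K (Groth.L29.LocFree.pullbackUnitIso g) a)
  let E2 : K ⊗[k] (Coh.structureModule (CohB1.ProjSpace 1 k) ⟶ Twist.twistProjSpace 1 k 1) ≃ₗ[K] (O ⟶ e.twist 1) :=
    (LinearEquiv.ofBijective _ (bijective_homBC q sq' hcP hcT)).trans
      (Linear.homCongr K (Groth.L29.LocFree.pullbackUnitIso q) τ)
  haveI : HasFiniteBiproducts (BrSev.bc f K).Modules := HasFiniteBiproducts.of_hasFiniteProducts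
  let L : Fin r → (BrSev.bc f K).Modules := fun _ => e.twist 1
  let E3 : (O ⟶ ∐ L) ≃ₗ[K] (Fin r → (O ⟶ e.twist 1)) :=
    (Linear.homCongr K (Iso.refl O) (biproduct.isoCoproduct L).symm).trans
      { toFun := fun x i => x ≫ biproduct.π L i
        invFun := fun x => biproduct.lift x
        map_add' := fun x y => funext fun i => Preadditive.add_comp _ _ _ _ _ _
        map_smul' := fun c x => funext fun i => Linear.smul_comp _ _ _ c x _
        left_inv := fun x => biproduct.hom_ext _ _ fun i => biproduct.lift_π _ i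
        right_inv := fun x => funext fun i => biproduct.lift_π x i }
  haveI : Module.Finite k (Coh.structureModule (CohB1.ProjSpace 1 k) ⟶ Twist.twistProjSpace 1 k 1) :=
    Groth.L14.Quot.finite_hom hcP hcT
  haveI : Module.Finite k (Coh.structureModule X ⟶ W) := Groth.L14.Quot.finite_hom hcO hcW
  haveI : Module.Finite K (O ⟶ e.twist 1) := Module.Finite.equiv E2
  have hV : Module.finrank k (Coh.structureModule X ⟶ W) = 2 * r := by
    rw [← Module.finrank_baseChange (R := K), (E1.trans E3).finrank_eq, Module.finrank_pi_fintype, ← E2.finrank_eq,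
      Module.finrank_baseChange, finrank_hom_twist_one]
    simp [mul_comm]
  -- the division algebra acts
  obtain ⟨L', -, ⟨t⟩⟩ := Groth.L08.Cube.exists_inverse (Groth.L24.GalPush.isInvertible_twist f e 1)
  have hk := Groth.L24.GalPush.bijective_toGlobal_bc f e
  obtain ⟨eA⟩ := Groth.L24.SB.exists_endAlg g sq hk t hW a
  obtain ⟨-, -, hfin, hd⟩ := Groth.L24.SB.csa_of_equiv hr eA
  haveI : Nontrivial (End W) := ⟨⟨1, 0, fun h => hWi.1 ((IsZero.iff_id_eq_zero W).2 h)⟩⟩
  letI : DivisionRing (End W) := DivisionRing.ofIsUnitOrEqZero fun α => or_iff_not_imp_right.2 fun hα =>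
    (isUnit_iff_isIso α).2 (Groth.L24.KrullSchmidt.isIso_endo g sq hk t hW hWi a α hα)
  let V := (Coh.structureModule X ⟶ W)
  let ρ : End W →+* Module.End k V :=
    { toFun := fun α =>
        { toFun := fun v : V => v ≫ (show W ⟶ W from α)
          map_add' := fun x y => Preadditive.add_comp _ _ _ x y _
          map_smul' := fun c x => Linear.smul_comp _ _ _ c x _ }
      map_one' := LinearMap.ext fun v => Category.comp_id v
      map_mul' := fun α β => LinearMap.ext fun v => (Category.assoc v (show W ⟶ W from β) (show W ⟶ W from α)).symm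
      map_zero' := LinearMap.ext fun v => (Limits.comp_zero : v ≫ (0 : W ⟶ W) = 0)
      map_add' := fun α β => LinearMap.ext fun v => Preadditive.comp_add _ _ _ v (show W ⟶ W from α) (show W ⟶ W from β) }
  letI : Module (End W) V := Module.compHom V ρ
  haveI : IsScalarTower k (End W) V := ⟨fun c α v => Linear.comp_smul _ _ _ v c (show W ⟶ W from α)⟩
  haveI : Module.Finite (End W) V := Module.Finite.of_restrictScalars_finite k (End W) V
  have h := Module.finrank_mul_finrank k (End W) V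
  rw [hd, hV] at h
  exact Nat.le_of_dvd two_pos ⟨Module.finrank (End W) V,
    Nat.eq_of_mul_eq_mul_left hr (by rw [← mul_assoc, h, mul_comm])⟩

include e in
/-- A form of the line is split or split by a quadratic extension. -/
theorem exists_quadratic [CharZero k] [IsAlgClosed K] :
    Nonempty (BrSev.Splitting f k 1) ∨ ∃ (L : Type u) (_ : Field L) (_ : Algebra k L) (φ : L) (a : k),
      Module.finrank k L = 2 ∧ φ ^ 2 = algebraMap k L a ∧ (∀ s : k, s ^ 2 ≠ a) ∧
        Nonempty (BrSev.Splitting f L 1) := by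
  classical
  obtain ⟨W, r, hW, hWi, hr, hWt⟩ := Groth.L24.SB.exists_indec_twPow_alg f e 1
  have hr2 := le_two f e hW hWi hr hWt
  rcases (show r = 1 ∨ r = 2 by omega) with rfl | rfl
  · exact Or.inl (Groth.L24.SB.nonempty_splitting_of_type_one f e hW hWt)
  refine Or.inr ?_
  letI : X.Over (Spec (CommRingCat.of k)) := ⟨f⟩
  haveI : IsProper (X ↘ Spec (CommRingCat.of k)) := ‹IsProper f›
  letI : (BrSev.bc f K).Over (Spec (CommRingCat.of K)) := ⟨BrSev.bcTo f K⟩
  haveI : IsProper (BrSev.bc f K ↘ Spec (CommRingCat.of K)) := inferInstanceAs (IsProper (BrSev.bcTo f K))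
  have sq : IsPullback (BrSev.proj f K) (BrSev.bc f K ↘ Spec (CommRingCat.of K)) (X ↘ Spec (CommRingCat.of k))
      (Spec.map (CommRingCat.ofHom (algebraMap k K))) :=
    IsPullback.of_hasPullback f (Spec.map (CommRingCat.ofHom (algebraMap k K)))
  obtain ⟨w⟩ := hWt
  obtain ⟨T, -, ⟨t⟩⟩ := Groth.L08.Cube.exists_inverse (Groth.L24.GalPush.isInvertible_twist f e 1)
  have hk := Groth.L24.GalPush.bijective_toGlobal_bc f e
  obtain ⟨eA⟩ := Groth.L24.SB.exists_endAlg (BrSev.proj f K) sq hk t hW w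
  obtain ⟨hcen, -, hfin, hd⟩ := Groth.L24.SB.csa_of_equiv hr eA
  haveI : Nontrivial (End W) := ⟨⟨1, 0, fun h => hWi.1 ((IsZero.iff_id_eq_zero W).2 h)⟩⟩
  letI : DivisionRing (End W) := DivisionRing.ofIsUnitOrEqZero fun α => or_iff_not_imp_right.2 fun hα =>
    (isUnit_iff_isIso α).2 (Groth.L24.KrullSchmidt.isIso_endo (BrSev.proj f K) sq hk t hW hWi w α hα)
  obtain ⟨d, hd0⟩ : ∃ d : End W, d ∉ (⊥ : Subalgebra k (End W)) := by
    by_contra h
    push Not at h
    have h1 := Subalgebra.bot_eq_top_iff_finrank_eq_one.1 (le_antisymm bot_le fun x _ => h x)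
    omega
  obtain ⟨a, d', ha, hd', hlin⟩ : ∃ (a : k) (d' : End W), (∀ s : k, s ^ 2 ≠ a) ∧ d' * d' = algebraMap k _ a ∧
      LinearIndependent k ![1, d'] := by
    have hint : IsIntegral k d := IsIntegral.of_finite k d
    let p := minpoly k d
    let A := Algebra.adjoin k {d}
    have hdeg : p.natDegree ≤ 2 := by
      by_contra hgt
      push Not at hgt
      letI : CommRing A := Algebra.adjoinCommRingOfComm k (by
        intro a ha b hb
        rw [Set.mem_singleton_iff.1 ha, Set.mem_singleton_iff.1 hb])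
      haveI : Nontrivial A := inferInstanceAs (Nontrivial (Subalgebra.toSubsemiring A))
      haveI : IsDomain A := NoZeroDivisors.to_isDomain A
      letI : Field A := fieldOfFiniteDimensional k A
      have hA : 3 ≤ Module.finrank k A := by
        have hli : LinearIndependent k fun i : Fin p.natDegree =>
            (⟨d, Algebra.self_mem_adjoin_singleton k d⟩ : A) ^ (i : ℕ) :=
          LinearIndependent.of_comp A.val.toLinearMap (linearIndependent_pow d)
        have := hli.fintype_card_le_finrank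
        rw [Fintype.card_fin] at this
        omega
      have hm := Module.finrank_mul_finrank k A (End W)
      rw [hd] at hm
      have hA4 : Module.finrank k A = 4 := by
        have hle := Nat.le_of_dvd (by norm_num : 0 < 2 * 2) ⟨_, hm.symm⟩
        rcases (show Module.finrank k A = 3 ∨ Module.finrank k A = 4 by omega) with h | h
        · rw [h] at hm; omega
        · exact h
      have htop : A = ⊤ := Algebra.toSubmodule_eq_top.1 (Submodule.eq_top_of_finrank_eq
        (show Module.finrank k A = _ by rw [hA4, hd]))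
      refine hd0 (hcen.out (Subalgebra.mem_center_iff.2 fun y => ?_))
      have hy : y ∈ A := htop ▸ Algebra.mem_top
      exact congrArg Subtype.val (mul_comm (⟨y, hy⟩ : A) ⟨d, Algebra.self_mem_adjoin_singleton k d⟩)
    have hdeg2 : p.natDegree = 2 := by
      refine le_antisymm hdeg ?_
      exact minpoly.two_le_natDegree_iff hint |>.2 fun hd1 => hd0 (Algebra.mem_bot.2 hd1)
    have hev : (p.aeval d) = 0 := minpoly.aeval k d
    rw [Polynomial.aeval_eq_sum_range, hdeg2, Finset.sum_range_succ, Finset.sum_range_succ, Finset.sum_range_one,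
      show p.coeff 2 = 1 from hdeg2 ▸ (minpoly.monic hint).coeff_natDegree, one_smul, pow_zero, pow_one] at hev
    refine ⟨p.coeff 1 ^ 2 / 4 - p.coeff 0, d + algebraMap k _ (p.coeff 1 / 2), fun s hs => ?_, ?_, ?_⟩
    · have hmul : (d + algebraMap k _ (p.coeff 1 / 2) - algebraMap k _ s) *
          (d + algebraMap k _ (p.coeff 1 / 2) + algebraMap k _ s) = 0 := by
        rw [← hev, Algebra.algebraMap_eq_smul_one, Algebra.algebraMap_eq_smul_one]
        have : p.coeff 0 = p.coeff 1 ^ 2 / 4 - s ^ 2 := by rw [hs]; ring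
        rw [this]
        simp only [add_mul, sub_mul, mul_add, smul_mul_assoc, mul_smul_comm, one_mul, mul_one, smul_smul, pow_two]
        module
      rcases mul_eq_zero.1 hmul with h | h
      · exact hd0 (Algebra.mem_bot.2 ⟨s - p.coeff 1 / 2, by
          rw [map_sub]; linear_combination (norm := abel) -h⟩)
      · exact hd0 (Algebra.mem_bot.2 ⟨-s - p.coeff 1 / 2, by
          rw [map_sub, map_neg]; linear_combination (norm := abel) -h⟩)
    · have e1 : d * d = -(p.coeff 0 • 1 + p.coeff 1 • d) := by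
        rw [← pow_two]; exact eq_neg_of_add_eq_zero_right hev
      simp only [Algebra.algebraMap_eq_smul_one, add_mul, mul_add, smul_mul_assoc, mul_smul_comm, one_mul, mul_one, smul_smul, e1]
      module
    · refine LinearIndependent.pair_iff.2 fun s t hst => ?_
      have ht : t = 0 := by
        by_contra ht
        refine hd0 (Algebra.mem_bot.2 ⟨-s / t - p.coeff 1 / 2, ?_⟩)
        rw [Algebra.algebraMap_eq_smul_one] at hst ⊢
        have := congrArg (fun x => t⁻¹ • x) hst
        simp only [smul_add, smul_smul, inv_mul_cancel₀ ht, one_smul, smul_zero] at this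
        rw [sub_smul, eq_comm, ← sub_eq_zero, ← this]
        match_scalars <;> field_simp <;> ring
      subst ht
      rw [zero_smul, add_zero, smul_eq_zero] at hst
      exact ⟨hst.resolve_right one_ne_zero, rfl⟩
  -- the quadratic field
  obtain ⟨φ, hφ⟩ := IsAlgClosed.exists_pow_nat_eq (algebraMap k K a) two_pos
  let L : IntermediateField k K := IntermediateField.adjoin k {φ}
  let φL : L := ⟨φ, IntermediateField.mem_adjoin_simple_self k φ⟩
  have hφL : φL ^ 2 = algebraMap k L a := Subtype.ext hφ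
  have hirr : Irreducible (Polynomial.X ^ 2 - Polynomial.C a) :=
    X_pow_sub_C_irreducible_of_prime Nat.prime_two ha
  have hmin : minpoly k φ = Polynomial.X ^ 2 - Polynomial.C a :=
    (minpoly.eq_of_irreducible_of_monic hirr (by simp [hφ]) (Polynomial.monic_X_pow_sub_C a two_ne_zero)).symm
  have hφi : IsIntegral k φ := ⟨_, Polynomial.monic_X_pow_sub_C a two_ne_zero, by simp [hφ]⟩
  have hrk : Module.finrank k L = 2 := by
    rw [IntermediateField.adjoin.finrank hφi, hmin, Polynomial.natDegree_X_pow_sub_C]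
  haveI : FiniteDimensional k L := Module.finite_of_finrank_pos (by omega)
  refine ⟨L, inferInstance, inferInstance, φL, a, hrk, hφL, ha, ?_⟩
  -- after the extension the bundle splits
  obtain ⟨e', he'⟩ := Groth.L24.SB.exists_splitting_tower f (L := L) e
  let WL := (Scheme.Modules.pullback (BrSev.proj f L)).obj W
  have hWL : FlatMod.IsFinLocFree WL := Groth.L29.LocFree.pullback _ hW
  have hWLt : BrSev.IsTwPow e' 1 2 WL := he' 1 2 WL fun t _ ht =>
    ⟨(Scheme.Modules.pullbackComp t (BrSev.proj f L)).app W ≪≫ (Scheme.Modules.pullbackCongr ht).app W ≪≫ w⟩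
  haveI : IsProper (BrSev.bcTo f L) := inferInstance
  obtain ⟨V, s, hV, hVi, hs, hVt⟩ := Groth.L24.SB.exists_indec_twPow_alg (BrSev.bcTo f L) e' 1
  have hs2 := le_two (BrSev.bcTo f L) e' hV hVi hs hVt
  rcases (show s = 1 ∨ s = 2 by omega) with rfl | rfl
  · obtain ⟨eL⟩ := Groth.L24.SB.nonempty_splitting_of_type_one (BrSev.bcTo f L) e' hV hVt
    have hid : Spec.map (CommRingCat.ofHom (algebraMap L L)) = 𝟙 _ := by
      rw [Algebra.algebraMap_self, CommRingCat.ofHom_id, Spec.map_id]
    haveI : IsIso (BrSev.proj (BrSev.bcTo f L) L) := by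
      haveI : IsIso (Spec.map (CommRingCat.ofHom (algebraMap L L))) := by rw [hid]; infer_instance
      exact inferInstanceAs (IsIso (pullback.fst (BrSev.bcTo f L) (Spec.map (CommRingCat.ofHom (algebraMap L L)))))
    refine ⟨⟨(asIso (BrSev.proj (BrSev.bcTo f L) L)).symm ≪≫ eL.iso, ?_⟩⟩
    rw [Iso.trans_hom, Iso.symm_hom, Category.assoc, eL.comm, asIso_inv, IsIso.inv_comp_eq]
    exact ((congrArg (fun x => BrSev.bcTo (BrSev.bcTo f L) L ≫ x) hid).trans (Category.comp_id _)).symm.trans pullback.condition.symm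
  exfalso
  obtain ⟨c, ⟨i⟩⟩ := Groth.L24.SB.nonempty_iso_pow (BrSev.bcTo f L) e' ⟨BrSev.bcTo f L⟩ rfl hV hVi hWL hVt hWLt
  letI : (BrSev.bc f L).Over (Spec (CommRingCat.of L)) := ⟨BrSev.bcTo f L⟩
  haveI : IsProper (BrSev.bc f L ↘ Spec (CommRingCat.of L)) := inferInstanceAs (IsProper (BrSev.bcTo f L))
  letI : (BrSev.bc (BrSev.bcTo f L) K).Over (Spec (CommRingCat.of K)) := ⟨BrSev.bcTo (BrSev.bcTo f L) K⟩
  haveI : IsProper (BrSev.bc (BrSev.bcTo f L) K ↘ Spec (CommRingCat.of K)) :=
    inferInstanceAs (IsProper (BrSev.bcTo (BrSev.bcTo f L) K))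
  have sq₂ : IsPullback (BrSev.proj (BrSev.bcTo f L) K) (BrSev.bc (BrSev.bcTo f L) K ↘ Spec (CommRingCat.of K))
      (BrSev.bc f L ↘ Spec (CommRingCat.of L)) (Spec.map (CommRingCat.ofHom (algebraMap L K))) :=
    IsPullback.of_hasPullback (BrSev.bcTo f L) (Spec.map (CommRingCat.ofHom (algebraMap L K)))
  obtain ⟨T', -, ⟨t'⟩⟩ := Groth.L08.Cube.exists_inverse (Groth.L24.GalPush.isInvertible_twist (BrSev.bcTo f L) e' 1)
  have hk' := Groth.L24.GalPush.bijective_toGlobal_bc (BrSev.bcTo f L) e'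
  obtain ⟨v⟩ := hVt
  obtain ⟨x⟩ := hWLt
  obtain ⟨eV⟩ := Groth.L24.SB.exists_endAlg _ sq₂ hk' t' hV v
  obtain ⟨eWL⟩ := Groth.L24.SB.exists_endAlg _ sq₂ hk' t' hWL x
  obtain ⟨-, -, -, hdV⟩ := Groth.L24.SB.csa_of_equiv two_pos eV
  obtain ⟨-, -, -, hdW⟩ := Groth.L24.SB.csa_of_equiv two_pos eWL
  haveI : IsLocallyNoetherian X := LocallyOfFiniteType.isLocallyNoetherian f
  obtain ⟨μ⟩ := Groth.L24.SB.exists_endPow (k := L) V c
  have hc : c = 1 := by
    have h := ((Groth.L24.SB.endCongr (K := L) i).trans μ).toLinearEquiv.finrank_eq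
    rw [hdW, Module.finrank_matrix, Fintype.card_fin, hdV] at h
    exact Nat.mul_self_inj.1 (by omega : c * c = 1 * 1)
  subst hc
  let iV : WL ≅ V := i ≪≫ coproductUniqueIso _
  have sq₁ : IsPullback (BrSev.proj f L) (BrSev.bc f L ↘ Spec (CommRingCat.of L)) (X ↘ Spec (CommRingCat.of k))
      (Spec.map (CommRingCat.ofHom (algebraMap k L))) :=
    IsPullback.of_hasPullback f (Spec.map (CommRingCat.ofHom (algebraMap k L)))
  let Φ := homBC (k := k) (K := L) (BrSev.proj f L) W W
  have hΦ := bijective_homBC (k := k) (K := L) (BrSev.proj f L) sq₁ (Groth.L16.NegPow.isCoh_of_isFinLocFree hW)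
    (Groth.L16.NegPow.isCoh_of_isFinLocFree hW)
  let z₁ : L ⊗[k] End W := φL ⊗ₜ 1 - 1 ⊗ₜ d'
  let z₂ : L ⊗[k] End W := φL ⊗ₜ 1 + 1 ⊗ₜ d'
  have hz : z₁ * z₂ = 0 := tensor_conj_mul hφL hd'
  have hφ0 : φL ≠ 0 := fun h0 => ha 0 (by
    rw [h0, zero_pow two_ne_zero] at hφL
    rw [zero_pow two_ne_zero]
    exact (algebraMap k L).injective (by rw [← hφL, map_zero]))
  obtain ⟨hn1, hn2⟩ : z₁ ≠ 0 ∧ z₂ ≠ 0 := tensor_conj_ne hφ0 hlin
  haveI : Nontrivial (End V) := ⟨⟨1, 0, fun h => hVi.1 ((IsZero.iff_id_eq_zero V).2 h)⟩⟩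
  have hu : ∀ z : L ⊗[k] End W, z ≠ 0 → IsIso (Φ z) := fun z hz0 => by
    have h0 : iV.inv ≫ Φ z ≫ iV.hom ≠ 0 := fun h => hz0 (hΦ.1 (by
      rw [map_zero]
      have h' := congrArg (fun m => iV.hom ≫ m ≫ iV.inv) h
      simpa using h'))
    haveI := Groth.L24.KrullSchmidt.isIso_endo (BrSev.proj (BrSev.bcTo f L) K) sq₂ hk' t' hV hVi v _ h0
    rw [show Φ z = iV.hom ≫ (iV.inv ≫ Φ z ≫ iV.hom) ≫ iV.inv by simp]
    infer_instance
  have h12 := Groth.L24.SB.homBC_mul (BrSev.proj f L) sq₁ z₁ z₂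
  rw [hz, map_zero] at h12
  haveI := hu z₁ hn1
  exact hn2 (hΦ.1 (((cancel_mono (Φ z₁)).1 (h12.symm.trans Limits.zero_comp.symm)).trans (map_zero Φ).symm))

end Groth.L24.P1
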