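import Groth.Agent.L24.P1.Conic
import Groth.Agent.L24.P1.Quad

/-!
# Genus zero curves descend to fields generated by two parameters
-/

set_option autoImplicit false
set_option backward.isDefEq.respectTransparency false
set_option backward.isDefEq.respectTransparency.types false
set_option linter.style.haveILetI false

universe u

open CategoryTheory CategoryTheory.Limits AlgebraicGeometry MvPolynomial TopologicalSpace
open GalTw (bcK galMap specMap twHom)
open Groth.L11.GalTwist (ptHom)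
open Groth.L08.P1Hom (smap)

noncomputable section

namespace Groth.L24.P1

variable {L : Type u} [Field L] {L' : Type u} [Field L'] [Algebra L L']

/-- A point fixed by the Galois group comes from the base. -/
theorem exists_section_of_invariant [FiniteDimensional L L'] [IsGalois L L'] {C : Scheme.{u}}
    (f : C ⟶ Spec (CommRingCat.of L)) (P : Spec (CommRingCat.of L') ⟶ C)
    (hP : P ≫ f = Spec.map (CommRingCat.ofHom (algebraMap L L')))
    (hinv : ∀ σ : L' ≃ₐ[L] L', specMap L' σ ≫ P = P) :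
    ∃ s : Spec (CommRingCat.of L) ⟶ C, s ≫ f = 𝟙 _ := by
  have hq := Groth.L11.GalTwist.isQuot_ptHom (k := L) L'
  have hi : ∀ g : L' ≃ₐ[L] L', (Groth.L11.GalTwist.specAction (k := L) L' g).hom ≫ P = P := fun g => hinv g⁻¹
  refine ⟨Groth.L27.Quot.desc hq P hi, Groth.L27.Quot.hom_ext hq ?_⟩
  rw [← Category.assoc, Groth.L27.Quot.comp_desc, hP, Category.comp_id]
  rfl

/-- The origin is the only point off the second chart. -/
theorem eq_zero_pt {K : Type u} [Field K] (x : CohB1.ProjSpace 1 K)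
    (hx : x ∉ Proj.basicOpen (CohB1.polyGrading 1 K) (X 1)) (t : Spec (CommRingCat.of K)) : x = stdPt K 0 t := by
  have key : ∀ y : CohB1.ProjSpace 1 K, y ∉ Proj.basicOpen (CohB1.polyGrading 1 K) (X 1) →
      ∃ z : Spec (CommRingCat.of (Polynomial K)), Groth.L08.P1Hom.a1 z = y ∧
        z.asIdeal = Ideal.span {Polynomial.X} := by
    intro y hy
    obtain ⟨i, hi⟩ := Opens.mem_iSup.1 ((Groth.L18.PS.iSup_chart (n := 1) (R := K)).ge (x := y) trivial)
    obtain rfl : i = 0 := by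
      fin_cases i
      · rfl
      · exact absurd hi hy
    rw [← SetLike.mem_coe, ← opensRange_a1] at hi
    obtain ⟨z, rfl⟩ := hi
    refine ⟨z, rfl, ?_⟩
    have hz : z ∉ Groth.L08.P1Hom.a1 ⁻¹ᵁ Proj.basicOpen (CohB1.polyGrading 1 K) (X 1) := hy
    rw [Groth.L08.P1Hom.a1, Groth.L18.PS.tuplePt_preimage_X] at hz
    have hmem : Polynomial.X ∈ z.asIdeal := by
      by_contra h
      exact hz ((PrimeSpectrum.mem_basicOpen _ _).2 h)
    haveI hmax : (Ideal.span {(Polynomial.X : Polynomial K)}).IsMaximal :=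
      PrincipalIdealRing.isMaximal_of_irreducible Polynomial.irreducible_X
    exact (hmax.eq_of_le z.2.ne_top (Ideal.span_le.2 (Set.singleton_subset_iff.2 hmem))).symm
  obtain ⟨z, hz, hzI⟩ := key x hx
  obtain ⟨z', hz', hzI'⟩ := key (stdPt K 0 t) (stdPt_not_mem (by decide) t)
  rw [← hz, ← hz', PrimeSpectrum.ext (hzI.trans hzI'.symm)]

/-- The point at infinity is the only point off the first chart. -/
theorem eq_one_pt {K : Type u} [Field K] (x : CohB1.ProjSpace 1 K)
    (hx : x ∉ Proj.basicOpen (CohB1.polyGrading 1 K) (X 0)) (t : Spec (CommRingCat.of K)) : x = stdPt K 1 t := by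
  have hsw : ∀ y, swap K (swap K y) = y := fun y => by
    rw [← Scheme.Hom.comp_apply, swap_swap]
    rfl
  have h : ∀ y, y ∉ Proj.basicOpen (CohB1.polyGrading 1 K) (X 0) →
      swap K y ∉ Proj.basicOpen (CohB1.polyGrading 1 K) (X 1) := fun y hy hy' => by
    have h1 : y ∈ swap K ⁻¹ᵁ Proj.basicOpen (CohB1.polyGrading 1 K) (X 1) := hy'
    rw [swap_preimage_X] at h1
    rw [sub_self] at h1
    exact hy h1
  exact (hsw x).symm.trans ((congrArg (swap K) ((eq_zero_pt _ (h x hx) t).trans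
    (eq_zero_pt _ (h _ (stdPt_not_mem (by decide) t)) t).symm)).trans (hsw _))

/-- A semilinear involution exchanging the standard points is standard. -/
theorem exists_eq_conj {K : Type u} [Field K] (σ : K →+* K) (hσ : ∀ x, σ (σ x) = x)
    (ψ : CohB1.ProjSpace 1 K ⟶ CohB1.ProjSpace 1 K) (hψψ : ψ ≫ ψ = 𝟙 _)
    (hψ : ψ ≫ CohB1.ProjSpace.toSpec 1 K = CohB1.ProjSpace.toSpec 1 K ≫ Spec.map (CommRingCat.ofHom σ))
    (h01 : Spec.map (CommRingCat.ofHom σ) ≫ stdPt K 0 ≫ ψ = stdPt K 1) :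
    ∃ (c : K) (hc : c ≠ 0), σ c = c ∧ ψ = conj σ c hc := by
  let S := Spec.map (CommRingCat.ofHom σ)
  let m := Groth.L16.ProjSpace.map 1 σ
  have hss : σ.comp σ = RingHom.id K := RingHom.ext hσ
  have hSS : S ≫ S = 𝟙 _ := by
    rw [← Spec.map_comp, ← CommRingCat.ofHom_comp, hss, CommRingCat.ofHom_id, Spec.map_id]
  have hmm : m ≫ m = 𝟙 _ := by
    simp only [m, Groth.L08.P1Hom.map_eq_smap, Groth.L08.P1Hom.smap_comp, ← Groth.L08.P1Hom.smap_id (R := K) 1]
    exact Groth.L08.P1Hom.smap_congr 1 hss (fun _ => by simp) _ _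
  have hm : m ≫ CohB1.ProjSpace.toSpec 1 K = CohB1.ProjSpace.toSpec 1 K ≫ S := Groth.L16.ProjSpace.map_toSpec _ _
  let t : Spec (CommRingCat.of K) := IsLocalRing.closedPoint K
  have hS : ∀ y, S y = t := fun y => Subsingleton.elim (α := PrimeSpectrum K) _ _
  have p01 : ψ (stdPt K 0 t) = stdPt K 1 t := by
    have h := congrArg (fun q : Spec (CommRingCat.of K) ⟶ CohB1.ProjSpace 1 K => q t) h01
    simp only [Scheme.Hom.comp_apply] at h
    change ψ (stdPt K 0 (S t)) = _ at h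
    rwa [hS] at h
  have hinvol : ∀ y, ψ (ψ y) = y := fun y => by
    rw [← Scheme.Hom.comp_apply, hψψ]
    rfl
  let θ : CohB1.ProjSpace 1 K ≅ CohB1.ProjSpace 1 K :=
    { hom := ψ ≫ swap K ≫ m
      inv := m ≫ swap K ≫ ψ
      hom_inv_id := by rw [Category.assoc, Category.assoc, reassoc_of% hmm, reassoc_of% (swap_swap (K := K)), hψψ]
      inv_hom_id := by rw [Category.assoc, Category.assoc, reassoc_of% hψψ, reassoc_of% (swap_swap (K := K)), hmm] }
  have hθ : θ.hom ≫ CohB1.ProjSpace.toSpec 1 K = CohB1.ProjSpace.toSpec 1 K := by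
    show (ψ ≫ swap K ≫ m) ≫ _ = _
    rw [Category.assoc, Category.assoc, hm, reassoc_of% (swap_toSpec (K := K)), reassoc_of% hψ, hSS, Category.comp_id]
  have hpre : θ.hom ⁻¹ᵁ Proj.basicOpen (CohB1.polyGrading 1 K) (X 0) =
      Proj.basicOpen (CohB1.polyGrading 1 K) (X 0) := by
    show (ψ ≫ swap K ≫ m) ⁻¹ᵁ _ = _
    rw [Scheme.Hom.comp_preimage, Scheme.Hom.comp_preimage, Groth.L16.ProjSpace.map_preimage_basicOpen_X,
      swap_preimage_X, sub_zero]
    ext x
    show ψ x ∈ Proj.basicOpen _ (X 1) ↔ x ∈ Proj.basicOpen _ (X 0)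
    refine ⟨fun h => by_contra fun hx => ?_, fun h => by_contra fun hx => ?_⟩
    · rw [eq_one_pt x hx t, ← p01, hinvol] at h
      exact stdPt_not_mem (by decide) t h
    · have h1 := congrArg ψ (eq_zero_pt _ hx t)
      rw [hinvol, p01] at h1
      rw [h1] at h
      exact stdPt_not_mem (by decide) t h
  have h0 : stdPt K 0 ≫ θ.hom = stdPt K 0 := by
    show stdPt K 0 ≫ ψ ≫ swap K ≫ m = _
    have h1 : stdPt K 0 ≫ ψ = S ≫ stdPt K 1 := by rw [← h01, reassoc_of% hSS]
    have h2 : stdPt K 1 ≫ swap K = stdPt K 0 := by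
      refine eq_stdPt _ (by rw [Category.assoc, swap_toSpec, stdPt_toSpec]) (j := 1) (by decide) t fun h => ?_
      have h' : stdPt K 1 t ∈ swap K ⁻¹ᵁ Proj.basicOpen (CohB1.polyGrading 1 K) (X 1) := h
      rw [swap_preimage_X, sub_self] at h'
      exact stdPt_not_mem (by decide) t h'
    rw [reassoc_of% h1, reassoc_of% h2, stdPt_map, ← Category.assoc, hSS, Category.id_comp]
  obtain ⟨c, hc, hθc⟩ := exists_scale θ hθ hpre h0
  have hψc : ψ = conj σ c hc := by
    have h : ψ = θ.hom ≫ m ≫ swap K := by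
      show ψ = (ψ ≫ swap K ≫ m) ≫ m ≫ swap K
      rw [Category.assoc, Category.assoc, reassoc_of% hmm, swap_swap, Category.comp_id]
    have hm' : smap 1 (RingHom.id K) ![c, 1] (isUnit_pair hc) ≫ m = smap 1 σ ![c, 1] (isUnit_pair hc) := by
      rw [show m = smap 1 σ (fun _ => 1) (fun _ => isUnit_one) from Groth.L08.P1Hom.map_eq_smap 1 σ,
        Groth.L08.P1Hom.smap_comp]
      exact Groth.L08.P1Hom.smap_congr 1 (RingHom.id_comp σ) (fun j => by simp) _ _
    rw [h, hθc, conj, ← Category.assoc, hm']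
  exact ⟨c, hc, conj_fixed σ hσ c hc (hψc ▸ hψψ), hψc⟩

/-- A genus zero curve has a point or two parameters. -/
theorem exists_params [CharZero L] {C : Scheme.{u}} (f : C ⟶ Spec (CommRingCat.of L))
    (hC : ModFun.IsCurveOfGenus 0 f) :
    (∃ s : Spec (CommRingCat.of L) ⟶ C, s ≫ f = 𝟙 _) ∨
      ∃ (L' : Type u) (_ : Field L') (_ : Algebra L L') (φ : L') (a c : L) (σ : L' ≃ₐ[L] L')
        (hc : algebraMap L L' c ≠ 0) (e : BrSev.Splitting f L' 1),
        Module.finrank L L' = 2 ∧ φ ^ 2 = algebraMap L L' a ∧ (∀ s : L, s ^ 2 ≠ a) ∧ σ φ = -φ ∧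
          galMap L' σ (Over.mk f) ≫ e.iso.hom = e.iso.hom ≫ conj (σ : L' →+* L') (algebraMap L L' c) hc := by
  classical
  by_cases hs : ∃ s : Spec (CommRingCat.of L) ⟶ C, s ≫ f = 𝟙 _
  · exact Or.inl hs
  obtain ⟨hsm, hpr, hirr, hfib⟩ := id hC
  haveI := hpr
  let Ω := AlgebraicClosure L
  obtain ⟨eΩ⟩ : Nonempty (BrSev.Splitting f Ω 1) := by
    let q := BrSev.bcTo f Ω
    obtain ⟨hd, hg⟩ := hfib Ω _ _ (BrSev.proj f Ω) q
      (IsPullback.of_hasPullback f (Spec.map (CommRingCat.ofHom (algebraMap L Ω))))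
    letI : (BrSev.bc f Ω).Over (Spec (CommRingCat.of Ω)) := ⟨q⟩
    haveI : IsProper q := MorphismProperty.of_isPullback (P := @IsProper)
      (IsPullback.of_hasPullback f (Spec.map (CommRingCat.ofHom (algebraMap L Ω)))) hpr
    haveI : Smooth q := MorphismProperty.of_isPullback (P := @Smooth)
      (IsPullback.of_hasPullback f (Spec.map (CommRingCat.ofHom (algebraMap L Ω)))) hsm
    haveI : IsProper (BrSev.bc f Ω ↘ Spec (CommRingCat.of Ω)) := ‹IsProper q›
    haveI : IrreducibleSpace (BrSev.bc f Ω) := hirr.geometrically_irreducibleSpace _ _ _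
      (IsPullback.of_hasPullback f (Spec.map (CommRingCat.ofHom (algebraMap L Ω))))
    haveI := Groth.L21.RR.isNoetherian_of_proper (X := BrSev.bc f Ω) Ω
    haveI : IsIntegral (BrSev.bc f Ω) :=
      Groth.L21.NormalTotal.isIntegral_of_connected fun x => Groth.L21.Smooth.isDomain_stalk q x
    obtain ⟨e, he⟩ := Groth.L21.RR.exists_iso_projLine_of_isAlgClosed Ω hd hg
    exact ⟨⟨e, he⟩⟩
  rcases exists_quadratic f eΩ with ⟨⟨e₀⟩⟩ | ⟨L', iF, iA, φ, a, hd, hφ, ha, ⟨e⟩⟩
  · refine absurd ?_ hs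
    refine ⟨stdPt L 0 ≫ e₀.iso.inv ≫ BrSev.proj f L, ?_⟩
    have h : BrSev.proj f L ≫ f = BrSev.bcTo f L := by
      rw [show BrSev.proj f L ≫ f = BrSev.bcTo f L ≫ Spec.map (CommRingCat.ofHom (algebraMap L L)) from pullback.condition]
      rw [Algebra.algebraMap_self, CommRingCat.ofHom_id, Spec.map_id, Category.comp_id]
    rw [Category.assoc, Category.assoc, h, ← e₀.comm, Iso.inv_hom_id_assoc, stdPt_toSpec]
  obtain ⟨hfin, hgal, σ, hσ, hσσ, hσ1, hall⟩ := exists_galois hφ ha hd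
  haveI := hfin
  haveI := hgal
  let τ : BrSev.bc f L' ⟶ BrSev.bc f L' := galMap L' σ (Over.mk f)
  have hττ : τ ≫ τ = 𝟙 _ := by
    show galMap L' σ (Over.mk f) ≫ galMap L' σ (Over.mk f) = _
    rw [GalTw.galMap_mul, hσσ, GalTw.galMap_one]
    rfl
  have hτ1 : τ ≫ BrSev.proj f L' = BrSev.proj f L' := GalTw.galMap_fst L' σ (Over.mk f)
  have hτ2 : τ ≫ BrSev.bcTo f L' = BrSev.bcTo f L' ≫ specMap L' σ := GalTw.galMap_snd L' σ (Over.mk f)
  have hSS : specMap L' σ ≫ specMap L' σ = 𝟙 _ := by rw [← GalTw.specMap_mul, hσσ, GalTw.specMap_one]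
  let P : Spec (CommRingCat.of L') ⟶ BrSev.bc f L' := stdPt L' 0 ≫ e.iso.inv
  have hPs : P ≫ BrSev.bcTo f L' = 𝟙 _ := by
    rw [Category.assoc, ← e.comm, Iso.inv_hom_id_assoc, stdPt_toSpec]
  let Q : Spec (CommRingCat.of L') ⟶ BrSev.bc f L' := specMap L' σ ≫ P ≫ τ
  have hQs : Q ≫ BrSev.bcTo f L' = 𝟙 _ := by
    rw [Category.assoc, Category.assoc, hτ2, reassoc_of% hPs, hSS]
  have hne : ∀ x, (stdPt L' 0) x ≠ (Q ≫ e.iso.hom) x := by
    intro x hx
    have hQ : Q ≫ e.iso.hom = stdPt L' 0 := eq_stdPt _ (by rw [Category.assoc, e.comm, hQs]) (j := 1) (by decide) x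
      (hx ▸ stdPt_not_mem (by decide) x)
    have hQP : Q = P := by rw [← cancel_mono e.iso.hom, hQ, Category.assoc, Iso.inv_hom_id, Category.comp_id]
    refine hs (exists_section_of_invariant (L' := L') f (P ≫ BrSev.proj f L') ?_ fun ρ => ?_)
    · rw [Category.assoc, show BrSev.proj f L' ≫ f = BrSev.bcTo f L' ≫ _ from pullback.condition, reassoc_of% hPs]
    · rcases hall ρ with rfl | rfl
      · rw [GalTw.specMap_one, Category.id_comp]
      · conv_rhs => rw [← hQP]
        simp only [Q, Category.assoc, hτ1]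
  obtain ⟨θ, hθ, hθ0, hθ1⟩ := exists_aut (stdPt L' 0) (Q ≫ e.iso.hom) (stdPt_toSpec 0)
    (by rw [Category.assoc, e.comm, hQs]) hne
  let e' : BrSev.Splitting f L' 1 := ⟨e.iso ≪≫ θ, by rw [Iso.trans_hom, Category.assoc, hθ, e.comm]⟩
  let ψ := e'.iso.inv ≫ τ ≫ e'.iso.hom
  obtain ⟨c, hc, hσc, hψc⟩ := exists_eq_conj (σ : L' →+* L') (fun x => AlgEquiv.congr_fun hσσ x) ψ
    (by simp only [ψ, Category.assoc, Iso.hom_inv_id_assoc, reassoc_of% hττ, Iso.inv_hom_id])
    (by
      simp only [ψ, Category.assoc]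
      rw [e'.comm, hτ2, ← Category.assoc, Iso.inv_comp_eq e'.iso |>.2 e'.comm.symm])
    (by
      have h0 : stdPt L' 0 ≫ e'.iso.inv = P := by
        show stdPt L' 0 ≫ θ.inv ≫ e.iso.inv = _
        conv_lhs => rw [← hθ0]
        simp only [Category.assoc, Iso.hom_inv_id_assoc]
        rfl
      simp only [ψ, reassoc_of% h0]
      show specMap L' σ ≫ P ≫ τ ≫ e.iso.hom ≫ θ.hom = _
      rw [← hθ1]
      simp only [Q, Category.assoc])
  obtain ⟨c₀, hc₀⟩ : ∃ c₀ : L, algebraMap L L' c₀ = c := by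
    have hfix : ∀ ρ : L' ≃ₐ[L] L', ρ c = c := fun ρ => by
      rcases hall ρ with rfl | rfl
      · rfl
      · exact hσc
    exact IntermediateField.mem_bot.1 ((IsGalois.mem_bot_iff_fixed _).2 hfix)
  subst hc₀
  refine Or.inr ⟨L', iF, iA, φ, a, c₀, σ, hc, e', hd, hφ, ha, hσ, ?_⟩
  rw [← hψc]
  show τ ≫ _ = _
  simp only [ψ, Iso.hom_inv_id_assoc]

/-- A genus zero curve is the base change of a model over any field containing its parameters. -/
theorem exists_cartesian {C : Scheme.{u}} (f : C ⟶ Spec (CommRingCat.of L)) [CharZero L]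
    {φ : L'} {a c : L} (hd : Module.finrank L L' = 2) (hφ : φ ^ 2 = algebraMap L L' a) (ha : ∀ s : L, s ^ 2 ≠ a)
    (σ : L' ≃ₐ[L] L') (hσ : σ φ = -φ) (hc : algebraMap L L' c ≠ 0) (e : BrSev.Splitting f L' 1)
    (he : galMap L' σ (Over.mk f) ≫ e.iso.hom = e.iso.hom ≫ conj (σ : L' →+* L') (algebraMap L L' c) hc)
    {F : Type u} [Field F] [CharZero F] [Algebra F L] (a₀ c₀ : F) (ha₀ : algebraMap F L a₀ = a)
    (hc₀ : algebraMap F L c₀ = c) :
    ∃ (Y : Scheme.{u}) (p : Y ⟶ Spec (CommRingCat.of F)) (h : C ⟶ Y),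
      ModFun.IsCurveOfGenus 0 p ∧ IsPullback h f p (Spec.map (CommRingCat.ofHom (algebraMap F L))) := by
  obtain ⟨hfin, hgal, σ', hσ', hσσ, hσ1, hall⟩ := exists_galois hφ ha hd
  haveI := hfin
  haveI := hgal
  haveI : CharZero L' := charZero_of_injective_algebraMap (algebraMap L L').injective
  obtain rfl : σ = σ' := by
    rcases hall σ with h | h
    · exfalso
      subst h
      exact not_range_of_sq hφ ha 0 (by
        rw [map_zero]; exact (add_self_eq_zero.1 (eq_neg_iff_add_eq_zero.1 (show φ = -φ from hσ))).symm)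
    · exact h
  letI : Algebra F L' := ((algebraMap L L').comp (algebraMap F L)).toAlgebra
  haveI : IsScalarTower F L L' := IsScalarTower.of_algebraMap_eq fun _ => rfl
  let F' : IntermediateField F L' := IntermediateField.adjoin F {φ}
  let φ' : F' := ⟨φ, IntermediateField.mem_adjoin_simple_self F φ⟩
  have hφ₀ : φ ^ 2 = algebraMap F L' a₀ := by rw [hφ, ← ha₀]; rfl
  have ha' : ∀ s : F, s ^ 2 ≠ a₀ := fun s hs => ha (algebraMap F L s) (by rw [← map_pow, hs, ha₀])
  have hirr : Irreducible (Polynomial.X ^ 2 - Polynomial.C a₀) := X_pow_sub_C_irreducible_of_prime Nat.prime_two ha'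
  have hroot : Polynomial.aeval φ (Polynomial.X ^ 2 - Polynomial.C a₀) = 0 := by simp [hφ₀]
  have hmin : minpoly F φ = Polynomial.X ^ 2 - Polynomial.C a₀ :=
    (minpoly.eq_of_irreducible_of_monic hirr hroot (Polynomial.monic_X_pow_sub_C a₀ two_ne_zero)).symm
  have hd' : Module.finrank F F' = 2 := by
    rw [IntermediateField.adjoin.finrank ⟨_, Polynomial.monic_X_pow_sub_C a₀ two_ne_zero, hroot⟩, hmin,
      Polynomial.natDegree_X_pow_sub_C]
  have hφ' : φ' ^ 2 = algebraMap F F' a₀ := Subtype.ext hφ₀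
  obtain ⟨hfin', -, σ₀, hσ₀, -, -, -⟩ := exists_galois hφ' ha' hd'
  have hι : (σ : L' →+* L').comp (F'.val : F' →+* L') = (F'.val : F' →+* L').comp (σ₀ : F' →+* F') := by
    refine RingHom.ext fun x => ?_
    obtain ⟨s, t, rfl⟩ := exists_coords hφ' ha' hd' x
    show σ (F'.val (algebraMap F F' s + t • φ')) = F'.val (σ₀ (algebraMap F F' s + t • φ'))
    simp only [map_add, Algebra.smul_def, map_mul, AlgEquiv.commutes, hσ₀, AlgHom.commutes, map_neg]
    rw [IsScalarTower.algebraMap_apply F L L' s, IsScalarTower.algebraMap_apply F L L' t, AlgEquiv.commutes,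
      AlgEquiv.commutes, show F'.val φ' = φ from rfl, hσ]
  have hc' : algebraMap F F' c₀ ≠ 0 := fun h => hc (by
    rw [← hc₀, ← IsScalarTower.algebraMap_apply F L L']
    have := congrArg F'.val h
    rwa [map_zero, AlgHom.commutes] at this)
  obtain ⟨Y, p, q, hY, sq, hq⟩ := exists_model hφ' ha' hd' σ₀ hσ₀ c₀ hc'
  let ι : F' →+* L' := (F'.val : F' →+* L')
  let g : BrSev.bc f L' ⟶ Y := e.iso.hom ≫ Groth.L16.ProjSpace.map 1 ι ≫ q
  let φL := Spec.map (CommRingCat.ofHom (algebraMap L L'))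
  let φF := Spec.map (CommRingCat.ofHom (algebraMap F L))
  have sqg : IsPullback g (BrSev.bcTo f L') p (φL ≫ φF) := by
    have h1 : IsPullback (e.iso.hom ≫ Groth.L16.ProjSpace.map 1 ι) (BrSev.bcTo f L')
        (CohB1.ProjSpace.toSpec 1 F') (Spec.map (CommRingCat.ofHom ι)) :=
      (Groth.L16.ProjSpace.isPullback_map 1 ι).of_iso e.iso.symm (Iso.refl _) (Iso.refl _) (Iso.refl _)
        (by simp) (by rw [Iso.refl_hom, Category.comp_id, Iso.symm_hom, ← e.comm, Iso.inv_hom_id_assoc])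
        (by simp) (by simp)
    have h2 := h1.paste_horiz sq
    rw [Category.assoc] at h2
    have hbase : Spec.map (CommRingCat.ofHom ι) ≫ Spec.map (CommRingCat.ofHom (algebraMap F F')) = φL ≫ φF := by
      rw [← Spec.map_comp, ← Spec.map_comp, ← CommRingCat.ofHom_comp, ← CommRingCat.ofHom_comp]
      congr 2
    rwa [hbase] at h2
  -- the curve and the base change of the model
  let A : Over (Spec (CommRingCat.of L)) := Over.mk (pullback.snd p φF)
  let T : Over (Spec (CommRingCat.of L)) := Over.mk f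
  have hA : IsPullback (pullback.fst A.hom (ptHom (k := L) L') ≫ pullback.fst p φF)
      (pullback.snd A.hom (ptHom (k := L) L')) p (φL ≫ φF) :=
    (IsPullback.of_hasPullback A.hom (ptHom (k := L) L')).paste_horiz (IsPullback.of_hasPullback p φF)
  let m : bcK L' T ≅ bcK L' A := Over.isoMk (sqg.isoIsPullback _ _ hA) (IsPullback.isoIsPullback_hom_snd _ _ _ _)
  have hm1 : m.hom.left ≫ pullback.fst A.hom (ptHom (k := L) L') ≫ pullback.fst p φF = g :=
    IsPullback.isoIsPullback_hom_fst _ _ _ _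
  have hm2 : m.hom.left ≫ pullback.snd A.hom (ptHom (k := L) L') = BrSev.bcTo f L' :=
    IsPullback.isoIsPullback_hom_snd _ _ _ _
  have hσg : galMap L' σ T ≫ g = g := by
    show galMap L' σ (Over.mk f) ≫ e.iso.hom ≫ Groth.L16.ProjSpace.map 1 ι ≫ q = _
    rw [reassoc_of% he, ← Category.assoc (conj _ _ hc), conj_map (σ₀ : F' →+* F') (σ : L' →+* L') ι hι _ hc' _ hc
      (by rw [← hc₀, ← IsScalarTower.algebraMap_apply F L L']; exact (F'.val.commutes c₀).symm), Category.assoc, hq]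
  obtain ⟨h0, -⟩ := Groth.L11.GalTwist.exists_iso_bcMap_eq (T := T) (A := A) m fun ρ => by
    refine Over.OverMorphism.ext (hA.hom_ext ?_ ?_)
    · show (galMap L' ρ T ≫ m.hom.left ≫ galMap L' ρ⁻¹ A) ≫ _ = _
      rw [Category.assoc, Category.assoc, GalTw.galMap_fst_assoc, hm1]
      rcases hall ρ with rfl | rfl
      · rw [GalTw.galMap_one, Category.id_comp]
      · exact hσg
    · show (galMap L' ρ T ≫ m.hom.left ≫ galMap L' ρ⁻¹ A) ≫ _ = _
      rw [Category.assoc, Category.assoc, GalTw.galMap_snd, reassoc_of% hm2, hm2]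
      show galMap L' ρ T ≫ pullback.snd T.hom (ptHom (k := L) L') ≫ _ = pullback.snd T.hom (ptHom (k := L) L')
      rw [GalTw.galMap_snd_assoc, ← GalTw.specMap_mul, mul_inv_cancel, GalTw.specMap_one, Category.comp_id]
  refine ⟨Y, p, h0.hom.left ≫ pullback.fst p φF, hY,
    (IsPullback.of_hasPullback p φF).of_iso ((Over.forget _).mapIso h0).symm (Iso.refl _) (Iso.refl _) (Iso.refl _)
      (by simp) ?_ (by simp) (by simp [φF])⟩
  simp only [Iso.symm_hom, Functor.mapIso_inv, Iso.refl_hom, Category.comp_id]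
  exact (Over.w h0.inv).symm

end Groth.L24.P1
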