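import Groth.Agent.L24.P1.Descend
import Mathlib.RingTheory.AlgebraicIndependent.TranscendenceBasis

/-!
# The essential dimension of genus zero curves is at most two
-/

set_option autoImplicit false
set_option backward.isDefEq.respectTransparency false
set_option backward.isDefEq.respectTransparency.types false
set_option linter.style.haveILetI false

universe u

open CategoryTheory CategoryTheory.Limits AlgebraicGeometry

noncomputable section

namespace Groth.L24.P1

open EssDim

theorem trdeg_adjoin_pair_le {k L : Type u} [Field k] [Field L] [Algebra k L] (a c : L) :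
    Algebra.trdeg k (IntermediateField.adjoin k ({a, c} : Set L)) ≤ 2 := by
  classical
  let K := IntermediateField.adjoin k ({a, c} : Set L)
  let s : Set K := {⟨a, IntermediateField.subset_adjoin k _ (by simp)⟩,
    ⟨c, IntermediateField.subset_adjoin k _ (by simp)⟩}
  haveI : Algebra.IsAlgebraic (Algebra.adjoin k s) K := by
    refine ⟨fun z => IntermediateField.isAlgebraic_adjoin_iff.1 ?_⟩
    have hz : z ∈ IntermediateField.adjoin k s := by
      have hmap : (IntermediateField.adjoin k s).map K.val = K := by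
        rw [IntermediateField.adjoin_map]
        simp [s, Set.image_insert_eq, K]
      have : (z : L) ∈ (IntermediateField.adjoin k s).map K.val := by rw [hmap]; exact z.2
      obtain ⟨w, hw, hwz⟩ := this
      exact Subtype.ext hwz ▸ hw
    exact isAlgebraic_algebraMap (⟨z, hz⟩ : IntermediateField.adjoin k s)
  refine (Algebra.IsAlgebraic.trdeg_le_cardinalMk k s).trans ?_
  exact (Cardinal.mk_insert_le).trans (by rw [Cardinal.mk_singleton]; norm_num)

variable {k : Type u} [Field k] [CharZero k] [FibCat.IsFibGrpd (CurvSt.Mgn (Spec (CommRingCat.of k)) 0 0).p]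

/-- Every genus zero curve descends to a field of transcendence degree at most two. -/
theorem exists_descends (L : Type u) [Field L] [Algebra k L]
    (x : StkCnt.pts (CurvSt.Mgn (Spec (CommRingCat.of k)) 0 0) L) :
    ∃ F : IntermediateField k L, Algebra.trdeg k F ≤ 2 ∧
      Descends (Gerb.isoClPsh (CurvSt.Mgn (Spec (CommRingCat.of k)) 0 0)) (L := L) (Quot.mk _ x) F := by
  haveI : CharZero L := charZero_of_injective_algebraMap (algebraMap k L).injective
  obtain ⟨⟨⟨base, C, f, sect, hsect⟩, hfam⟩, hbase⟩ := x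
  change base = SGA7.pt (K := k) L at hbase
  subst hbase
  have hC := hfam.1
  suffices ∃ (F : IntermediateField k L) (Y : Scheme.{u}) (p : Y ⟶ Spec (CommRingCat.of F)) (h : C ⟶ Y),
      Algebra.trdeg k F ≤ 2 ∧ ModFun.IsCurveOfGenus 0 p ∧
        IsPullback h f p (Spec.map (CommRingCat.ofHom (algebraMap F L))) by
    obtain ⟨F, Y, p, h, htr, hY, sq⟩ := this
    let y : StkCnt.pts (CurvSt.Mgn (Spec (CommRingCat.of k)) 0 0) F :=
      ⟨⟨⟨SGA7.pt (K := k) F, Y, p, fun i => i.elim0, fun i => i.elim0⟩, hY, fun i => i.elim0⟩, rfl⟩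
    refine ⟨F, htr, (descends_isoCl_iff _ _ F).2 ⟨y, ⟨⟨⟨resPt F.val, h, sq, fun i => i.elim0⟩⟩, ?_⟩⟩⟩
    exact IsHomLift.of_fac' _ _ _ rfl rfl (by simp; rfl)
  rcases exists_params f hC with ⟨s, hs⟩ | ⟨L', iF, iA, φ, a, c, σ, hc, e, hd, hφ, ha, hσ, he⟩
  · obtain ⟨e, he⟩ := exists_iso_line f hC s hs
    let F : IntermediateField k L := ⊥
    haveI : Algebra.IsAlgebraic k F := Algebra.IsAlgebraic.of_finite k F
    refine ⟨F, CohB1.ProjSpace 1 F, CohB1.ProjSpace.toSpec 1 F, e.hom ≫ Groth.L16.ProjSpace.map 1 (algebraMap F L),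
      (trdeg_eq_zero (R := k) (A := F)).trans_le zero_le, (isSmoothPtdFam_std F (fun i : Fin 0 => (i.elim0 : Fin 2))
        (fun i => i.elim0)).1, ?_⟩
    exact (Groth.L16.ProjSpace.isPullback_map 1 (algebraMap F L)).of_iso e.symm (Iso.refl _) (Iso.refl _)
      (Iso.refl _) (by simp) (by simp [← he]) (by simp) (by simp)
  · let F : IntermediateField k L := IntermediateField.adjoin k {a, c}
    haveI : CharZero F := charZero_of_injective_algebraMap (algebraMap k F).injective
    obtain ⟨Y, p, h, hY, sq⟩ := exists_cartesian f hd hφ ha σ hσ hc e he (F := F)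
      ⟨a, IntermediateField.subset_adjoin k _ (by simp)⟩ ⟨c, IntermediateField.subset_adjoin k _ (by simp)⟩ rfl rfl
    exact ⟨F, Y, p, h, trdeg_adjoin_pair_le a c, hY, sq⟩

/-- Genus zero curves have essential dimension at most two. -/
theorem edSt_genus_zero :
    EssDim.edSt (CurvSt.Mgn (Spec (CommRingCat.of k)) 0 0) ≠ ⊥ ∧
      EssDim.edSt (CurvSt.Mgn (Spec (CommRingCat.of k)) 0 0) ≤ ((2 : ℕ) : WithBot ℕ∞) := by
  constructor
  · intro h
    have h' := edAt_le_ed (P := Gerb.isoClPsh (CurvSt.Mgn (Spec (CommRingCat.of k)) 0 0)) (L := k)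
      (Quot.mk _ (stdObj k (n := 0) (fun i : Fin 0 => (i.elim0 : Fin 2)) (fun i => i.elim0)))
    change _ ≤ EssDim.edSt _ at h'
    rw [h] at h'
    exact WithBot.coe_ne_bot (le_bot_iff.1 h')
  · refine iSup_le fun L => iSup_le fun iF => iSup_le fun iA => iSup_le fun ξ => ?_
    induction ξ using Quot.ind with
    | mk x =>
      obtain ⟨F, htr, hF⟩ := exists_descends L x
      refine WithBot.coe_le_coe.2 ((edAt_le_of_descends hF).trans ?_)
      refine (OrderHomClass.mono Cardinal.toENat htr).trans ?_
      simp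

end Groth.L24.P1
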