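import Groth.Agent.L24.P1.Points
import Groth.Agent.L24.SB.Forms
import Groth.Agent.L21.Disc.SimplyConn
import Groth.Prelude.Def_StCurv
import Groth.Prelude.Def_EssDim

/-!
# Genus zero curves with one or two marked points are split
-/

set_option autoImplicit false
set_option backward.isDefEq.respectTransparency false
set_option backward.isDefEq.respectTransparency.types false
set_option linter.style.haveILetI false

universe u

open CategoryTheory CategoryTheory.Limits AlgebraicGeometry MvPolynomial TopologicalSpace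

noncomputable section

namespace Groth.L24.P1

/-- A genus zero curve with a rational point is the projective line. -/
theorem exists_iso_line {L : Type u} [Field L] {C : Scheme.{u}} (p : C ⟶ Spec (CommRingCat.of L))
    (hC : ModFun.IsCurveOfGenus 0 p) (s : Spec (CommRingCat.of L) ⟶ C) (hs : s ≫ p = 𝟙 _) :
    ∃ e : C ≅ CohB1.ProjSpace 1 L, e.hom ≫ CohB1.ProjSpace.toSpec 1 L = p := by
  obtain ⟨hsm, hpr, hirr, hfib⟩ := hC
  let Ω := AlgebraicClosure L
  let q := BrSev.bcTo p Ω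
  obtain ⟨hd, hg⟩ := hfib Ω _ _ (BrSev.proj p Ω) q
    (IsPullback.of_hasPullback p (Spec.map (CommRingCat.ofHom (algebraMap L Ω))))
  letI : (BrSev.bc p Ω).Over (Spec (CommRingCat.of Ω)) := ⟨q⟩
  haveI : IsProper q := MorphismProperty.of_isPullback (P := @IsProper)
    (IsPullback.of_hasPullback p (Spec.map (CommRingCat.ofHom (algebraMap L Ω)))) hpr
  haveI : Smooth q := MorphismProperty.of_isPullback (P := @Smooth)
    (IsPullback.of_hasPullback p (Spec.map (CommRingCat.ofHom (algebraMap L Ω)))) hsm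
  haveI : IsProper (BrSev.bc p Ω ↘ Spec (CommRingCat.of Ω)) := ‹IsProper q›
  haveI hir : IrreducibleSpace (BrSev.bc p Ω) := hirr.geometrically_irreducibleSpace _ _ _
    (IsPullback.of_hasPullback p (Spec.map (CommRingCat.ofHom (algebraMap L Ω))))
  haveI := Groth.L21.RR.isNoetherian_of_proper (X := BrSev.bc p Ω) Ω
  haveI : IsIntegral (BrSev.bc p Ω) :=
    Groth.L21.NormalTotal.isIntegral_of_connected fun x => Groth.L21.Smooth.isDomain_stalk q x
  obtain ⟨e, he⟩ := Groth.L21.RR.exists_iso_projLine_of_isAlgClosed Ω hd hg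
  obtain ⟨e'⟩ := Groth.L24.SB.nonempty_splitting_of_point p s hs (K := Ω) (n := 1) ⟨e, he⟩
  have hid : Spec.map (CommRingCat.ofHom (algebraMap L L)) = 𝟙 _ := by
    rw [Algebra.algebraMap_self, CommRingCat.ofHom_id, Spec.map_id]
  haveI : IsIso (BrSev.proj p L) := by
    haveI : IsIso (Spec.map (CommRingCat.ofHom (algebraMap L L))) := by rw [hid]; infer_instance
    exact inferInstanceAs (IsIso (pullback.fst p (Spec.map (CommRingCat.ofHom (algebraMap L L)))))
  refine ⟨(asIso (BrSev.proj p L)).symm ≪≫ e'.iso, ?_⟩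
  rw [Iso.trans_hom, Iso.symm_hom, Category.assoc, e'.comm, asIso_inv, IsIso.inv_comp_eq]
  exact ((congrArg (fun x => BrSev.bcTo p L ≫ x) hid).trans (Category.comp_id _)).symm.trans pullback.condition.symm

variable {K : Type u} [Field K]

/-- An automorphism moving one or two distinct points to the standard ones. -/
theorem exists_aut (a b : Spec (CommRingCat.of K) ⟶ CohB1.ProjSpace 1 K)
    (ha : a ≫ CohB1.ProjSpace.toSpec 1 K = 𝟙 _) (hb : b ≫ CohB1.ProjSpace.toSpec 1 K = 𝟙 _)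
    (hne : ∀ x, a x ≠ b x) :
    ∃ φ : CohB1.ProjSpace 1 K ≅ CohB1.ProjSpace 1 K,
      φ.hom ≫ CohB1.ProjSpace.toSpec 1 K = CohB1.ProjSpace.toSpec 1 K ∧
      a ≫ φ.hom = stdPt K 0 ∧ b ≫ φ.hom = stdPt K 1 := by
  have coord : ∀ s : Spec (CommRingCat.of K) ⟶ CohB1.ProjSpace 1 K, s ≫ CohB1.ProjSpace.toSpec 1 K = 𝟙 _ →
      ∃ (v : Fin 2 → K) (i : Fin 2) (hv : IsUnit (v i)),
        s = Groth.L18.PS.tuplePt (B := CommRingCat.of K) (RingHom.id K) v i hv := by
    intro s hs
    let x : Spec (CommRingCat.of K) := IsLocalRing.closedPoint K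
    obtain ⟨i, hi⟩ := Opens.mem_iSup.1 ((Groth.L18.PS.iSup_chart (n := 1) (R := K)).ge (x := s x) trivial)
    obtain ⟨τ, v, hv, rfl, -⟩ := Groth.L18.PS.exists_tuplePt (B := CommRingCat.of K) s i fun y => by
      obtain rfl : y = x := Subsingleton.elim (α := PrimeSpectrum K) _ _
      exact hi
    rw [Groth.L18.PS.tuplePt_toSpec] at hs
    obtain rfl : τ = RingHom.id K := congrArg CommRingCat.Hom.hom (Spec.map_injective (hs.trans (Spec.map_id _).symm))
    exact ⟨v, i, hv, rfl⟩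
  obtain ⟨v, i, hv, rfl⟩ := coord a ha
  obtain ⟨w, j, hw, rfl⟩ := coord b hb
  have hdet : v 0 * w 1 - v 1 * w 0 ≠ 0 := by
    intro h
    have h2 : v 0 * w 1 = v 1 * w 0 := sub_eq_zero.1 h
    have hvi : v i ≠ 0 := hv.ne_zero
    have hmul : ∀ l, w l = (w i / v i) * v l := by
      intro l
      rw [div_mul_eq_mul_div, eq_div_iff hvi]
      fin_cases i <;> fin_cases l <;> simp only [Fin.zero_eta, Fin.mk_one] <;>
        first | exact mul_comm _ _ | linear_combination h2 | linear_combination -h2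
    refine hne (IsLocalRing.closedPoint K) (congrArg (fun q : Spec (CommRingCat.of K) ⟶ CohB1.ProjSpace 1 K => q (IsLocalRing.closedPoint K)) ?_)
    have hu : IsUnit ((fun l => (w i / v i) * v l) j) := by
      simp only [← hmul]
      exact hw
    rw [Groth.L18.PS.tuplePt_congr _ hmul j j hw hu, Groth.L18.PS.tuplePt_smul _ _ _ j i hu hv]
  let M : Matrix (Fin 2) (Fin 2) K := !![-w 1, w 0; -v 1, v 0]
  have hM : IsUnit M.det := isUnit_iff_ne_zero.2 (by
    rw [Matrix.det_fin_two_of]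
    intro h
    exact hdet (by linear_combination -h))
  obtain ⟨φ, hφ, hpre⟩ := exists_linAut (M := M) (N := M⁻¹) (Matrix.nonsing_inv_mul M hM) (Matrix.mul_nonsing_inv M hM)
  have hmem : ∀ (u : Fin 2 → K) (l : Fin 2) (hu : IsUnit (u l)) (r : Fin 2) (x : Spec (CommRingCat.of K)),
      (M r 0 * u 0 + M r 1 * u 1 = 0) →
      (Groth.L18.PS.tuplePt (B := CommRingCat.of K) (RingHom.id K) u l hu ≫ φ.hom) x ∉
        Proj.basicOpen (CohB1.polyGrading 1 K) (X r) := by
    intro u l hu r x h hx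
    have h1 : x ∈ Groth.L18.PS.tuplePt (B := CommRingCat.of K) (RingHom.id K) u l hu ⁻¹ᵁ
        (φ.hom ⁻¹ᵁ Proj.basicOpen (CohB1.polyGrading 1 K) (X r)) := hx
    rw [hpre, Groth.L18.PS.tuplePt_preimage_basicOpen _ _ _ _ (row M r) (d := 1)
      (IsHomogeneous.sum _ _ _ fun j _ => isHomogeneous_C_mul_X (M r j) j) one_pos] at h1
    refine h1 ?_
    have : eval₂Hom (RingHom.id K) u (row M r) = 0 := by
      simp only [row, Fin.sum_univ_two, map_add, map_mul, eval₂Hom_C, eval₂Hom_X', RingHom.id_apply]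
      exact h
    rw [this]
    exact Submodule.zero_mem _
  refine ⟨φ, hφ, ?_, ?_⟩
  · refine eq_stdPt _ (by rw [Category.assoc, hφ, ha]) (j := 1) (by decide) (IsLocalRing.closedPoint K)
      (hmem v i hv 1 _ ?_)
    simp [M]; ring
  · refine eq_stdPt _ (by rw [Category.assoc, hφ, hb]) (j := 0) (by decide) (IsLocalRing.closedPoint K)
      (hmem w j hw 0 _ ?_)
    simp [M]; ring

/-- The standard pointed line is a smooth family. -/
theorem isSmoothPtdFam_std (F : Type u) [Field F] {n : ℕ} (c : Fin n → Fin 2) (hc : Function.Injective c) :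
    CurvSt.IsSmoothPtdFam (CohB1.ProjSpace.toSpec 1 F) (fun i => stdPt F (c i)) 0 := by
  have hfib : ∀ (Ω : Type u) [Field Ω] [IsAlgClosed Ω] (t : Spec (CommRingCat.of Ω) ⟶ Spec (CommRingCat.of F))
      (X : Scheme.{u}) (i : X ⟶ CohB1.ProjSpace 1 F) (q : X ⟶ Spec (CommRingCat.of Ω)),
      IsPullback i q (CohB1.ProjSpace.toSpec 1 F) t →
      topologicalKrullDim X = 1 ∧ (letI : X.Over (Spec (CommRingCat.of Ω)) := ⟨q⟩; Curv2.genus Ω X = 0) := by
    intro Ω _ _ t X i q sq
    obtain ⟨φ, rfl⟩ := Spec.map_surjective t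
    let e : X ≅ CohB1.ProjSpace 1 Ω := sq.isoIsPullback _ _ (Groth.L16.ProjSpace.isPullback_map 1 φ.hom)
    refine ⟨?_, ?_⟩
    · rw [(TopCat.homeoOfIso (Scheme.forgetToTop.mapIso e)).isHomeomorph.topologicalKrullDim_eq]
      exact_mod_cast Groth.L16.ProjSpace.topologicalKrullDim_eq_of_field (n := 1) Ω
    · letI : X.Over (Spec (CommRingCat.of Ω)) := ⟨q⟩
      obtain ⟨b⟩ := Groth.L22.Reg.nonempty_O_zero 1 Ω
      have h := Groth.Agent.Pic0.subsingleton_HH_congr b 1
        (Groth.L16.ProjSpace.subsingleton_HH_twist 1 Ω 0 1 (by omega) (by omega))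
      obtain ⟨w⟩ := Groth.Agent.Pic0.nonempty_HH_pullback e.hom (Coh.structureModule (CohB1.ProjSpace 1 Ω)) 1
      haveI : Subsingleton (Coh.HH X (Coh.structureModule X) 1) :=
        Groth.Agent.Pic0.subsingleton_HH_congr (Groth.L29.LocFree.pullbackUnitIso e.hom) 1 (haveI := h; w.toEquiv.subsingleton)
      exact Module.finrank_zero_of_subsingleton
  refine ⟨⟨inferInstance, Groth.L16.ProjSpace.isProper_toSpec (n := 1) (R := F), ?_, hfib⟩, fun i j hij x h => ?_⟩
  · obtain ⟨s⟩ := Groth.L24.SB.exists_splitting_projSpace (k := F) 1 F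
    haveI := Groth.L24.SB.geometricallyIntegral_of_splitting (CohB1.ProjSpace.toSpec 1 F) s
    infer_instance
  · have hcne : c j ≠ c i := fun h' => hij (hc h'.symm)
    obtain ⟨l, hl⟩ := Opens.mem_iSup.1 ((Groth.L18.PS.iSup_chart (n := 1) (R := F)).ge (x := stdPt F (c i) x) trivial)
    rcases eq_or_ne l (c i) with rfl | hne
    · exact stdPt_not_mem (Ne.symm hcne) x (h ▸ hl)
    · exact stdPt_not_mem hne x hl

/-- A pointed genus zero curve is the standard pointed line. -/
theorem exists_normalize {L : Type u} [Field L] {n : ℕ} (hn : n = 1 ∨ n = 2) (c : Fin n → Fin 2)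
    (hc : ∀ i, (c i).val = i.val) {C : Scheme.{u}} (f : C ⟶ Spec (CommRingCat.of L))
    (sect : Fin n → (Spec (CommRingCat.of L) ⟶ C)) (hsect : ∀ i, sect i ≫ f = 𝟙 _)
    (hfam : CurvSt.IsSmoothPtdFam f sect 0) :
    ∃ ψ : C ≅ CohB1.ProjSpace 1 L, ψ.hom ≫ CohB1.ProjSpace.toSpec 1 L = f ∧
      ∀ i, sect i ≫ ψ.hom = stdPt L (c i) := by
  obtain ⟨hgen, hdist⟩ := hfam
  have hn0 : 0 < n := by omega
  obtain ⟨e, he⟩ := exists_iso_line f hgen (sect ⟨0, hn0⟩) (hsect _)
  let a := sect ⟨0, hn0⟩ ≫ e.hom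
  have ha : a ≫ CohB1.ProjSpace.toSpec 1 L = 𝟙 _ := by rw [Category.assoc, he, hsect]
  obtain ⟨b, hb, hab, hb1⟩ : ∃ b : Spec (CommRingCat.of L) ⟶ CohB1.ProjSpace 1 L,
      b ≫ CohB1.ProjSpace.toSpec 1 L = 𝟙 _ ∧ (∀ x, a x ≠ b x) ∧
        ∀ i : Fin n, i.val = 1 → sect i ≫ e.hom = b := by
    rcases hn with rfl | rfl
    · let x : Spec (CommRingCat.of L) := IsLocalRing.closedPoint L
      obtain ⟨l, hl⟩ := Opens.mem_iSup.1 ((Groth.L18.PS.iSup_chart (n := 1) (R := L)).ge (x := a x) trivial)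
      refine ⟨stdPt L (1 - l), stdPt_toSpec _, fun y hy => ?_, fun i hi => absurd hi (by omega)⟩
      have hyx : y = x := Subsingleton.elim (α := PrimeSpectrum L) _ _
      subst hyx
      exact stdPt_not_mem (show l ≠ 1 - l by fin_cases l <;> decide) _ (hy ▸ hl)
    · refine ⟨sect 1 ≫ e.hom, by rw [Category.assoc, he, hsect], fun x hx => ?_, fun i hi => ?_⟩
      · exact hdist 0 1 (by decide) x (e.hom.isOpenEmbedding.injective hx)
      · rw [show i = 1 from Fin.ext hi]
  obtain ⟨φ, hφ, hφa, hφb⟩ := exists_aut a b ha hb hab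
  refine ⟨e ≪≫ φ, by rw [Iso.trans_hom, Category.assoc, hφ, he], fun i => ?_⟩
  rw [Iso.trans_hom]
  rcases Nat.lt_or_ge i.val 1 with hi | hi
  · have h0 : c i = 0 := Fin.ext ((hc i).trans (by omega))
    rw [h0, ← hφa, show i = ⟨0, hn0⟩ from Fin.ext (show i.val = 0 by omega), Category.assoc]
  · have h1 : i.val = 1 := by omega
    rw [show c i = 1 from Fin.ext ((hc i).trans h1), ← hφb, ← hb1 i h1, Category.assoc]

/-- The standard points commute with extension of the field. -/
theorem stdPt_map {F L : Type u} [Field F] [Field L] (g : F →+* L) (i : Fin 2) :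
    stdPt L i ≫ Groth.L16.ProjSpace.map 1 g = Spec.map (CommRingCat.ofHom g) ≫ stdPt F i := by
  have sq := Groth.L16.ProjSpace.isPullback_map 1 g
  let s := sq.lift (Spec.map (CommRingCat.ofHom g) ≫ stdPt F i) (𝟙 _)
    (by rw [Category.assoc, stdPt_toSpec, Category.comp_id, Category.id_comp])
  have hs : s ≫ Groth.L16.ProjSpace.map 1 g = Spec.map (CommRingCat.ofHom g) ≫ stdPt F i :=
    IsPullback.lift_fst _ _ _ _
  obtain ⟨j, hj⟩ : ∃ j : Fin 2, j ≠ i := exists_ne _
  have hs' : s = stdPt L i := by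
    refine eq_stdPt s (IsPullback.lift_snd _ _ _ _) hj (IsLocalRing.closedPoint L) fun hx => ?_
    have h1 : IsLocalRing.closedPoint L ∈
        (s ≫ Groth.L16.ProjSpace.map 1 g) ⁻¹ᵁ Proj.basicOpen (CohB1.polyGrading 1 F) (X j) := by
      rw [Scheme.Hom.comp_preimage, Groth.L16.ProjSpace.map_preimage_basicOpen_X]
      exact hx
    rw [hs] at h1
    exact stdPt_not_mem hj _ h1
  rw [← hs', hs]

variable {k : Type u} [Field k]

/-- The standard pointed line as an object of the moduli stack. -/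
def stdObj (F : Type u) [Field F] [Algebra k F] {n : ℕ} (c : Fin n → Fin 2) (hc : Function.Injective c) :
    StkCnt.pts (CurvSt.Mgn (Spec (CommRingCat.of k)) 0 n) F :=
  ⟨⟨⟨SGA7.pt (K := k) F, CohB1.ProjSpace 1 F, CohB1.ProjSpace.toSpec 1 F, fun i => stdPt F (c i),
      fun i => stdPt_toSpec (c i)⟩, isSmoothPtdFam_std F c hc⟩, rfl⟩

open EssDim in
/-- Every pointed line descends to the base field. -/
theorem descends_obj {n : ℕ} (hn : n = 1 ∨ n = 2) [FibCat.IsFibGrpd (CurvSt.Mgn (Spec (CommRingCat.of k)) 0 n).p]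
    (c : Fin n → Fin 2) (hc : ∀ i, (c i).val = i.val) (hci : Function.Injective c)
    (L : Type u) [Field L] [Algebra k L] (F : IntermediateField k L)
    (x : StkCnt.pts (CurvSt.Mgn (Spec (CommRingCat.of k)) 0 n) L) :
    Descends (Gerb.isoClPsh (CurvSt.Mgn (Spec (CommRingCat.of k)) 0 n)) (L := L) (Quot.mk _ x) F := by
  refine (descends_isoCl_iff _ _ F).2 ⟨stdObj F c hci, ?_⟩
  obtain ⟨⟨⟨base, C, f, sect, hsect⟩, hfam⟩, hbase⟩ := x
  change base = SGA7.pt (K := k) L at hbase
  subst hbase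
  obtain ⟨ψ, hψ, hsec⟩ := exists_normalize hn c hc f sect hsect hfam
  let g := Groth.L16.ProjSpace.map 1 (algebraMap F L)
  have hcart : IsPullback (ψ.hom ≫ g) f (CohB1.ProjSpace.toSpec 1 F) (resPt (k := k) F.val).left :=
    (Groth.L16.ProjSpace.isPullback_map 1 (algebraMap F L)).of_iso ψ.symm (Iso.refl _) (Iso.refl _)
      (Iso.refl _) (by simp [g]) (by simp [← hψ]) (by simp) (by simp; rfl)
  refine ⟨⟨⟨resPt F.val, ψ.hom ≫ g, hcart, fun i => ?_⟩⟩, ?_⟩
  · show sect i ≫ ψ.hom ≫ g = Spec.map (CommRingCat.ofHom (algebraMap F L)) ≫ stdPt F (c i)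
    rw [← Category.assoc, hsec]
    exact stdPt_map (algebraMap F L) (c i)
  · exact IsHomLift.of_fac' _ _ _ rfl rfl (by simp; rfl)

open EssDim in
/-- Pointed lines have essential dimension zero. -/
theorem edSt_eq_zero (k : Type u) [Field k] (n : ℕ) (hn : n = 1 ∨ n = 2)
    [FibCat.IsFibGrpd (CurvSt.Mgn (Spec (CommRingCat.of k)) 0 n).p] :
    EssDim.edSt (CurvSt.Mgn (Spec (CommRingCat.of k)) 0 n) = 0 := by
  let c : Fin n → Fin 2 := fun i => ⟨i, by omega⟩
  have hc : Function.Injective c := fun i j h => Fin.ext (Fin.mk.inj_iff.mp h)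
  refine le_antisymm (iSup_le fun L => iSup_le fun iF => iSup_le fun iA => iSup_le fun ξ => ?_) ?_
  · induction ξ using Quot.ind with
    | mk x =>
      let F : IntermediateField k L := ⊥
      have htr : Algebra.trdeg k F = 0 := by
        haveI : Algebra.IsAlgebraic k F := Algebra.IsAlgebraic.of_finite k F
        exact trdeg_eq_zero
      exact (WithBot.coe_le_coe.2 ((edAt_le_of_descends (K := F) (descends_obj hn c (fun i => rfl) hc L F x)).trans_eq
        (by rw [htr, map_zero]))).trans le_rfl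
  · have h := edAt_le_ed (P := Gerb.isoClPsh (CurvSt.Mgn (Spec (CommRingCat.of k)) 0 n)) (L := k)
      (Quot.mk _ (stdObj k c hc))
    exact le_trans (WithBot.coe_le_coe.2 zero_le) h

end Groth.L24.P1
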