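import Groth.Agent.L18.ProjSpace
import Groth.Agent.L16.ProjSpace.BaseChange
import Groth.Agent.L08.P1Hom.Scale
import Groth.Agent.L18.FiniteProjective

/-!
# Rational points and linear automorphisms of the projective line
-/

set_option autoImplicit false
set_option backward.isDefEq.respectTransparency false
set_option backward.isDefEq.respectTransparency.types false
set_option linter.style.haveILetI false

universe u

open CategoryTheory CategoryTheory.Limits AlgebraicGeometry MvPolynomial TopologicalSpace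

noncomputable section

namespace Groth.L24.P1

variable {K : Type u} [Field K]

/-- The standard point `i`. -/
def stdPt (K : Type u) [Field K] (i : Fin 2) : Spec (CommRingCat.of K) ⟶ CohB1.ProjSpace 1 K :=
  Groth.L18.PS.tuplePt (B := CommRingCat.of K) (RingHom.id K) (Pi.single i 1) i (by simp)

theorem stdPt_toSpec (i : Fin 2) : stdPt K i ≫ CohB1.ProjSpace.toSpec 1 K = 𝟙 _ := by
  rw [stdPt, Groth.L18.PS.tuplePt_toSpec]
  exact Spec.map_id _

theorem stdPt_not_mem {i j : Fin 2} (h : j ≠ i) (x : Spec (CommRingCat.of K)) :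
    stdPt K i x ∉ Proj.basicOpen (CohB1.polyGrading 1 K) (X j) := by
  intro hx
  have h1 : x ∈ stdPt K i ⁻¹ᵁ Proj.basicOpen (CohB1.polyGrading 1 K) (X j) := hx
  rw [stdPt, Groth.L18.PS.tuplePt_preimage_X] at h1
  exact h1 (by rw [Pi.single_eq_of_ne h]; exact Submodule.zero_mem _)

/-- A rational point off `D(Xⱼ)` is the other standard point. -/
theorem eq_stdPt (s : Spec (CommRingCat.of K) ⟶ CohB1.ProjSpace 1 K) (hs : s ≫ CohB1.ProjSpace.toSpec 1 K = 𝟙 _)
    {i j : Fin 2} (h : j ≠ i) (x : Spec (CommRingCat.of K))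
    (hx : s x ∉ Proj.basicOpen (CohB1.polyGrading 1 K) (X j)) : s = stdPt K i := by
  have hall : ∀ l : Fin 2, l = i ∨ l = j := fun l => by omega
  have hmem : ∀ y, s y ∈ Proj.basicOpen (CohB1.polyGrading 1 K) (X i) := fun y => by
    obtain rfl : y = x := Subsingleton.elim (α := PrimeSpectrum K) _ _
    obtain ⟨l, hl⟩ := Opens.mem_iSup.1 ((Groth.L18.PS.iSup_chart (n := 1) (R := K)).ge (x := s y) trivial)
    rcases hall l with rfl | rfl
    · exact hl
    · exact absurd hl hx
  obtain ⟨τ, b, hb, rfl, hbi⟩ := Groth.L18.PS.exists_tuplePt (B := CommRingCat.of K) s i hmem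
  rw [Groth.L18.PS.tuplePt_toSpec] at hs
  obtain rfl : τ = RingHom.id K := congrArg CommRingCat.Hom.hom (Spec.map_injective (hs.trans (Spec.map_id _).symm))
  have hbj : b j = 0 := by
    by_contra hne
    refine hx ?_
    show x ∈ Groth.L18.PS.tuplePt _ b i hb ⁻¹ᵁ Proj.basicOpen (CohB1.polyGrading 1 K) (X j)
    rw [Groth.L18.PS.tuplePt_preimage_X]
    exact fun hm => x.2.ne_top (Ideal.eq_top_of_isUnit_mem _ hm (isUnit_iff_ne_zero.2 hne))
  refine Groth.L18.PS.tuplePt_congr _ (fun l => ?_) i i hb _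
  rcases hall l with rfl | rfl
  · rw [hbi, Pi.single_eq_same]
  · rw [hbj, Pi.single_eq_of_ne h]

/-- The linear form attached to a row. -/
def row (M : Matrix (Fin 2) (Fin 2) K) (i : Fin 2) : MvPolynomial (Fin 2) K := ∑ j, C (M i j) * X j

/-- The graded endomorphism of a matrix. -/
def linGraded (M : Matrix (Fin 2) (Fin 2) K) : CohB1.polyGrading 1 K →+*ᵍ CohB1.polyGrading 1 K :=
  { eval₂Hom (C : K →+* MvPolynomial (Fin 2) K) (row M) with
    map_mem := fun {i _} h => by
      have h' := MvPolynomial.IsHomogeneous.eval₂ h (C : K →+* MvPolynomial (Fin 2) K) (row M)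
        (fun r => isHomogeneous_C _ _) (n := 1)
        (fun i => IsHomogeneous.sum _ _ _ fun j _ => isHomogeneous_C_mul_X (M i j) j)
      rw [_root_.one_mul] at h'
      exact h' }

theorem linGraded_row (M N : Matrix (Fin 2) (Fin 2) K) (i : Fin 2) :
    linGraded M (row N i) = row (N * M) i := by
  show eval₂Hom C (row M) (row N i) = _
  simp only [row, map_sum, map_mul, eval₂Hom_C, eval₂Hom_X', Matrix.mul_apply, map_sum, Finset.sum_mul,
    Finset.mul_sum]
  rw [Finset.sum_comm]
  exact Finset.sum_congr rfl fun _ _ => Finset.sum_congr rfl fun _ _ => by ring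

theorem row_one (i : Fin 2) : row (1 : Matrix (Fin 2) (Fin 2) K) i = X i := by
  fin_cases i <;> simp [row, Fin.sum_univ_two, Matrix.one_apply]

theorem linGraded_irrelevant {M N : Matrix (Fin 2) (Fin 2) K} (h : N * M = 1) :
    HomogeneousIdeal.irrelevant (CohB1.polyGrading 1 K) ≤
      (HomogeneousIdeal.irrelevant (CohB1.polyGrading 1 K)).map (linGraded M) := by
  show (HomogeneousIdeal.irrelevant (CohB1.polyGrading 1 K)).toIdeal ≤
    ((HomogeneousIdeal.irrelevant (CohB1.polyGrading 1 K)).map (linGraded M)).toIdeal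
  refine (Groth.L16.ProjSpace.irrelevant_le_span 1 K).trans (Ideal.span_le.2 ?_)
  rintro _ ⟨i, rfl⟩
  rw [show (X i : MvPolynomial (Fin 2) K) = linGraded M (row N i) by rw [linGraded_row, h, row_one]]
  refine Ideal.mem_map_of_mem _ (HomogeneousIdeal.mem_irrelevant_of_mem _ one_pos ?_)
  exact (mem_homogeneousSubmodule _ _).2 (IsHomogeneous.sum _ _ _ fun j _ => isHomogeneous_C_mul_X (N i j) j)

theorem linGraded_comp {M N : Matrix (Fin 2) (Fin 2) K} (h : N * M = 1) (p : MvPolynomial (Fin 2) K) :
    ((linGraded M).comp (linGraded N)) p = p := by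
  show linGraded M (linGraded N p) = p
  induction p using MvPolynomial.induction_on with
  | C r =>
    show eval₂Hom C (row M) (eval₂Hom C (row N) (C r)) = C r
    rw [eval₂Hom_C, eval₂Hom_C]
  | add a b ha hb => rw [map_add, map_add, ha, hb]
  | mul_X a i ha =>
    rw [map_mul, map_mul, ha, show linGraded N (X i) = row N i from eval₂Hom_X' _ _ _, linGraded_row, h, row_one]

theorem exists_linAut {M N : Matrix (Fin 2) (Fin 2) K} (h : N * M = 1) (h' : M * N = 1) :
    ∃ φ : CohB1.ProjSpace 1 K ≅ CohB1.ProjSpace 1 K,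
      φ.hom ≫ CohB1.ProjSpace.toSpec 1 K = CohB1.ProjSpace.toSpec 1 K ∧
      ∀ i, φ.hom ⁻¹ᵁ Proj.basicOpen (CohB1.polyGrading 1 K) (X i) =
        Proj.basicOpen (CohB1.polyGrading 1 K) (row M i) := by
  have key : ∀ {A B : Matrix (Fin 2) (Fin 2) K} (hA : B * A = 1) (hB : A * B = 1),
      Proj.map (linGraded A) (linGraded_irrelevant hA) ≫ Proj.map (linGraded B) (linGraded_irrelevant hB) = 𝟙 _ := by
    intro A B hA hB
    rw [← Proj.map_comp]
    exact (Groth.L08.P1Hom.projMap_congr 1 (g := .id _) (fun p => linGraded_comp hA p) _ (by simp)).trans Proj.map_id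
  refine ⟨⟨Proj.map (linGraded M) (linGraded_irrelevant h), Proj.map (linGraded N) (linGraded_irrelevant h'),
    key h h', key h' h⟩, ?_, fun i => ?_⟩
  · -- both sides restrict along constants
    show Proj.map (linGraded M) _ ≫ CohB1.ProjSpace.toSpec 1 K = _
    rw [CohB1.ProjSpace.toSpec, ← Category.assoc, Groth.L18.FinProj.map_toSpecZero, Category.assoc, ← Spec.map_comp,
      ← CommRingCat.ofHom_comp]
    congr 3
    skip
    refine RingHom.ext fun r => Subtype.ext ?_
    exact eval₂Hom_C (C : K →+* MvPolynomial (Fin 2) K) (row M) r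
  · rw [Proj.map_preimage_basicOpen]
    congr 1
    exact eval₂Hom_X' _ _ _

end Groth.L24.P1
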